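import Cfsg.Agent.Lib.Fi24Recog30.Inner

/-!
Copies of a model at three commuting transpositions `a`, `b`, `c`: from one copy at `a` onto the group
of a component, copies at `b` and `c` agreeing pairwise on the meets.
-/

set_option autoImplicit false
set_option linter.style.haveILetI false
set_option linter.unusedSectionVars false

namespace Cfsg.Agent.Lib.Fi24Recog30

open Cfsg.Agent.Lib.FischerMTypes.Basic Cfsg.Agent.Lib.FischerMTypes.Primitive
open Cfsg.Agent.Lib.FischerMTypes.TraceCounts (Sys)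

universe u v

variable {G : Type u} [Group G] [Finite G] {Y : Type v} [Group Y] [Finite Y] {E : Set Y}
variable {F : Type} [Field F] [Fintype F] {T : Top G Y E}

/-- the stabiliser of the component of a state -/
def Top.stabOf (v : T.St) : Subgroup G where
  carrier := {g | Relation.ReflTransGen T.R v (g • v)}
  one_mem' := by show Relation.ReflTransGen T.R v ((1 : G) • v); rw [one_smul]
  mul_mem' := fun {a b} ha hb => by
    show Relation.ReflTransGen T.R v ((a * b) • v)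
    rw [mul_smul]
    exact Relation.ReflTransGen.trans ha (T.conn_smul a hb)
  inv_mem' := fun {a} ha => by
    show Relation.ReflTransGen T.R v (a⁻¹ • v)
    have := T.conn_smul a⁻¹ ha
    rw [inv_smul_smul] at this
    exact T.conn_symm this

theorem Top.mem_stabOf_smul {g x : G} {v : T.St} : x ∈ T.stabOf (g • v) ↔ g⁻¹ * x * g ∈ T.stabOf v := by
  show Relation.ReflTransGen T.R (g • v) (x • g • v) ↔ Relation.ReflTransGen T.R v ((g⁻¹ * x * g) • v)
  constructor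
  · intro h
    have := T.conn_smul g⁻¹ h
    rwa [inv_smul_smul, ← mul_smul, ← mul_smul] at this
  · intro h
    have := T.conn_smul g h
    rwa [← mul_smul, ← mul_assoc, ← mul_assoc, mul_inv_cancel, one_mul, mul_smul] at this

variable (S : Sys E F)

include S in
theorem Top.side_of_dd {y : G} (hy : y ∈ T.dd) (hc : Commute y T.t) (hne : y ≠ T.t) : y ∈ T.side := by
  obtain ⟨v, hv, rfl⟩ := hy
  rcases T.R_of_commute S hv (show Commute T.o.el v.el from hc.symm) with h | h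
  · exact absurd (congrArg Top.St.el h.symm) hne
  · exact h.1

include S in
/-- the stabiliser of a state inside that of a component through it -/
theorem Top.Kv_iff {u v : T.St} (huv : Relation.ReflTransGen T.R u v) {g : G} :
    g ∈ T.Kv v ↔ g ∈ T.stabOf u ∧ Commute g v.el := by
  constructor
  · intro hg
    refine ⟨?_, T.el_comm hg⟩
    have h := T.conn_smul g huv
    rw [T.mem_Kv.1 hg] at h
    exact Relation.ReflTransGen.trans huv (T.conn_symm h)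
  · rintro ⟨hg, hc⟩
    exact T.fix_of_comm S (Relation.ReflTransGen.trans (T.conn_symm huv)
      (Relation.ReflTransGen.trans hg (T.conn_smul g huv))) hc

/-- the elements of `N` centralising `a` -/
def ev {M : Type*} [Group M] (N : Subgroup M) (a : M) : Subgroup M := Subgroup.centralizer ({a} : Set M) ⊓ N

theorem mem_ev {M : Type*} [Group M] {N : Subgroup M} {a x : M} : x ∈ ev N a ↔ Commute x a ∧ x ∈ N := by
  show x ∈ Subgroup.centralizer ({a} : Set M) ∧ x ∈ N ↔ _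
  rw [Subgroup.mem_centralizer_singleton_iff]
  rfl

theorem conj_commute_iff {M : Type*} [Group M] (g a b : M) :
    Commute (g * a * g⁻¹) (g * b * g⁻¹) ↔ Commute a b := commute_conj_iff g a b

variable {M : Type*} [Group M] {N : Subgroup M} [N.Normal] (cls : Set M)

theorem commute_of_map {p : M} (f : ↥(ev N p) →* G) (hf : Function.Injective f) {x y : ↥(ev N p)}
    (h : Commute (f x) (f y)) : Commute (x : M) (y : M) := by
  have h' : f (x * y) = f (y * x) := by rw [map_mul, map_mul]; exact h.eq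
  exact congrArg Subtype.val (hf h')

set_option maxHeartbeats 1000000 in
include S in
/-- the three copies -/
theorem exists_copies {a b c : M} (hinv : ∀ g : M, ∀ d ∈ cls, g * d * g⁻¹ ∈ cls) (hN : ∀ d ∈ cls, a * d ∈ N)
    (ha : a ∈ cls) (hb : b ∈ cls) (hc : c ∈ cls) (ha2 : a * a = 1) (hab : Commute a b) (hac : Commute a c)
    (hbc : Commute b c) (hne : a ≠ b) (hne2 : a ≠ c) (hne3 : b ≠ c)
    (e : ↥(ev N a) →* G) (he : Function.Injective e) (hrange : e.range = T.Yg)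
    (het : ∀ h : a * b ∈ ev N a, e ⟨_, h⟩ = T.t)
    (hcls : ∀ d ∈ cls, Commute a d → d ≠ a → ∀ h : a * d ∈ ev N a, e ⟨_, h⟩ ∈ T.dd)
    {m : M} (hma : m * a * m⁻¹ = b) (hmb : m * b * m⁻¹ = a) :
    ∃ (ψB : ↥(ev N b) →* G) (ψX : ↥(ev N c) →* G),
      (∀ (x : M) (h : x ∈ ev N a) (h' : x ∈ ev N b), e ⟨x, h⟩ = ψB ⟨x, h'⟩) ∧
      (∀ (x : M) (h : x ∈ ev N a) (h' : x ∈ ev N c), e ⟨x, h⟩ = ψX ⟨x, h'⟩) ∧
      ∀ (x : M) (h : x ∈ ev N b) (h' : x ∈ ev N c), ψB ⟨x, h⟩ = ψX ⟨x, h'⟩ := by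
  have hne0 := exists_nonempty S
  have hsq2 : ∀ d : M, a * b * (a * d) = b * d := fun d => by
    rw [← mul_assoc, mul_assoc a b a, ← hab.eq, ← mul_assoc a a b, ha2, one_mul]
  have hmem : ∀ {d}, d ∈ cls → Commute a d → a * d ∈ ev N a := fun hd h =>
    mem_ev.2 ⟨((Commute.refl a).mul_left h.symm), hN _ hd⟩
  have hside : ∀ {d}, d ∈ cls → (h1 : Commute a d) → d ≠ a → Commute b d → d ≠ b →
      ∀ h : a * d ∈ ev N a, e ⟨_, h⟩ ∈ T.side := by
    intro d hd h1 h2 h3 h4 h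
    refine T.side_of_dd S (hcls d hd h1 h2 h) ?_ fun he' => h4 ?_
    · rw [← het (hmem hb hab)]
      exact (show Commute (⟨_, h⟩ : ↥(ev N a)) ⟨_, hmem hb hab⟩ from Subtype.ext
        (((Commute.refl a).mul_right hab).mul_left (h1.symm.mul_right h3.symm)).eq).map e
    · rw [← het (hmem hb hab)] at he'
      exact mul_left_cancel (congrArg Subtype.val (he he'))
  have hto : ∀ x : ↥(ev N a), Commute (x : M) b → e x ∈ T.K := fun x hx => by
    refine T.cent_eq S (hrange ▸ ⟨x, rfl⟩) ?_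
    rw [← het (hmem hb hab)]
    exact (show Commute x ⟨_, hmem hb hab⟩ from Subtype.ext ((mem_ev.1 x.2).1.mul_right hx).eq).map e
  have hfrom : ∀ k : ↥T.K, ∃ x : ↥(ev N a), Commute (x : M) b ∧ e x = k := fun k => by
    obtain ⟨x, hx⟩ := hrange.ge (T.K_le S k.2)
    refine ⟨x, ?_, hx⟩
    have h1 : Commute (e x) (e ⟨_, hmem hb hab⟩) := by rw [het, hx]; exact T.le _ k.2
    have h2 : Commute (x : M) (a * b) := commute_of_map e he h1
    have h3 : b = a⁻¹ * (a * b) := by rw [inv_mul_cancel_left]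
    rw [h3]
    exact (mem_ev.1 x.2).1.inv_right.mul_right h2
  -- the copy at `b`
  obtain ⟨w, hw, hws⟩ := T.swap
  change cs w T.side = (fun x => T.t * x) '' T.side at hws
  have hmN : ∀ {x}, x ∈ ev N b → m * x * m⁻¹ ∈ ev N a := fun {x} hx => mem_ev.2
    ⟨by rw [← hmb]; exact (conj_commute_iff m x b).2 (mem_ev.1 hx).1,
      (inferInstance : N.Normal).conj_mem x (mem_ev.1 hx).2 m⟩
  let mm : ↥(ev N b) →* ↥(ev N a) := MonoidHom.mk' (fun x => ⟨m * x * m⁻¹, hmN x.2⟩) fun x y =>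
    Subtype.ext (by show m * ((x : M) * y) * m⁻¹ = m * x * m⁻¹ * (m * y * m⁻¹); group)
  let φ : ↥(ev N b) →* G := (MulAut.conj w).toMonoidHom.comp (e.comp mm)
  have hφK : ∀ (x : M) (h : x ∈ ev N b), Commute x a → φ ⟨x, h⟩ ∈ T.K := fun x h hx => by
    show w * e (mm ⟨x, h⟩) * w⁻¹ ∈ T.K
    refine T.nor w hw _ (hto _ ?_)
    show Commute (m * x * m⁻¹) b
    rw [← hma]
    exact (conj_commute_iff m x a).2 hx
  choose pre hpre₁ hpre₂ using hfrom
  have hpreB : ∀ k, (pre k : M) ∈ ev N b := fun k => mem_ev.2 ⟨hpre₁ k, (mem_ev.1 (pre k).2).2⟩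
  have hpre_mul : ∀ k l, pre (k * l) = pre k * pre l := fun k l => he (by
    rw [map_mul, hpre₂, hpre₂, hpre₂]; rfl)
  let θ : ↥T.K →* ↥T.K := MonoidHom.mk'
    (fun k => ⟨φ ⟨_, hpreB k⟩, hφK _ _ (mem_ev.1 (pre k).2).1⟩) fun k l => Subtype.ext (by
      show φ _ = φ _ * φ _
      rw [← map_mul]
      exact congrArg φ (Subtype.ext (show (pre (k * l) : M) = (pre k : M) * (pre l : M) by rw [hpre_mul]; rfl)))
  have hθinj : Function.Injective θ := by
    have hφi : Function.Injective φ := (MulAut.conj w).injective.comp (he.comp fun x y h => Subtype.ext (by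
      have h' : m * (x : M) * m⁻¹ = m * y * m⁻¹ := congrArg Subtype.val h
      simpa using h'))
    intro k l h
    have h1 := congrArg Subtype.val (hφi (congrArg Subtype.val h))
    exact Subtype.ext (by rw [← hpre₂ k, ← hpre₂ l]; exact congrArg e (Subtype.ext h1))
  have hu := hside hc hac (Ne.symm hne2) hbc (Ne.symm hne3) (hmem hc hac)
  set u := e ⟨_, hmem hc hac⟩ with hudef
  obtain ⟨e₀, he₀, hue₀⟩ := hu
  change (T.L e₀ : G) = u at hue₀
  obtain ⟨k₁, hk₁⟩ : ∃ k : ↥T.K, ∀ x, θ x = k * x * k⁻¹ := by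
    set c' := m * c * m⁻¹ with hc'
    have hc'a : Commute a c' := by
      rw [← hmb]; exact (conj_commute_iff m b c).2 hbc
    have hc'b : Commute b c' := by
      rw [← hma]; exact (conj_commute_iff m a c).2 hac
    have hne_a : c' ≠ a := fun h => hne3 (by
      rw [← hmb] at h; simpa [hc'] using h.symm)
    have hne_b : c' ≠ b := fun h => hne2 (by
      rw [← hma] at h; simpa [hc'] using h.symm)
    have hs := hside (hinv m c hc) hc'a hne_a hc'b hne_b (hmem (hinv m c hc) hc'a)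
    set s' := e ⟨_, hmem (hinv m c hc) hc'a⟩ with hs'
    have hθu : (θ (T.L e₀) : G) = T.t * (w * s' * w⁻¹) := by
      have hp : (pre (T.L e₀) : M) = a * c := congrArg Subtype.val
        (he (show e (pre (T.L e₀)) = e ⟨_, hmem hc hac⟩ by rw [hpre₂]; exact hue₀))
      show w * e (mm _) * w⁻¹ = _
      have hm : mm ⟨_, hpreB (T.L e₀)⟩ = ⟨_, hmem hb hab⟩ * ⟨_, hmem (hinv m c hc) hc'a⟩ := Subtype.ext (by
        show m * (pre (T.L e₀) : M) * m⁻¹ = a * b * (a * c')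
        rw [hp, show m * (a * c) * m⁻¹ = (m * a * m⁻¹) * (m * c * m⁻¹) by group, hma, ← hc',
          hsq2])
      rw [hm, map_mul, het, ← hs']
      calc w * (T.t * s') * w⁻¹ = (w * T.t) * (s' * w⁻¹) := by simp only [mul_assoc]
        _ = (T.t * w) * (s' * w⁻¹) := by rw [hw.eq]
        _ = _ := by simp only [mul_assoc]
    obtain ⟨f, hf, hf'⟩ : T.t * (w * s' * w⁻¹) ∈ T.side := by
      obtain ⟨y, hy, hy'⟩ := hws ▸ (conj_mem_cs (g := w)).2 hs
      rw [← show (fun x => T.t * x) y = w * s' * w⁻¹ from hy']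
      show T.t * (T.t * y) ∈ T.side
      rwa [← mul_assoc, T.sq, one_mul]
    exact T.inner_o S θ hθinj he₀ hf (Subtype.ext (hθu.trans hf'.symm))
  let ψB : ↥(ev N b) →* G := (MulAut.conj (k₁ : G)⁻¹).toMonoidHom.comp φ
  have hB : ∀ (x : M) (h : x ∈ ev N a) (h' : x ∈ ev N b), e ⟨x, h⟩ = ψB ⟨x, h'⟩ := by
    intro x h h'
    set k : ↥T.K := ⟨e ⟨x, h⟩, hto _ (mem_ev.1 h').1⟩ with hk
    have hx : (pre k : M) = x := congrArg Subtype.val (he (hpre₂ k))
    have h1 : (θ k : G) = φ ⟨x, h'⟩ := congrArg φ (Subtype.ext hx)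
    show e ⟨x, h⟩ = (k₁ : G)⁻¹ * φ ⟨x, h'⟩ * ((k₁ : G)⁻¹)⁻¹
    rw [← h1, hk₁]
    simp [hk, mul_assoc]
  set g₁ := (k₁ : G)⁻¹ * w with hg₁
  set oB : T.St := g₁ • T.o with hoB
  have hg₁t : Commute g₁ T.t := ((T.le _ k₁.2).inv_left).mul_left hw
  have hoBel : oB.el = T.t := by
    rw [hoB, Top.St.el_smul, T.o_el, hg₁t.eq, mul_inv_cancel_right]
  have hoBsd : oB.sd = (fun x => T.t * x) '' T.side := by
    rcases T.dich hne0 hg₁t with ⟨h1, -⟩ | ⟨-, h2⟩
    · exfalso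
      have hwK : w ∈ T.K := by
        have := mul_mem k₁.2 h1
        rwa [hg₁, mul_inv_cancel_left] at this
      rw [T.cs_K hwK] at hws
      obtain ⟨y, hy⟩ := T.exists_mem hne0
      obtain ⟨x, hx, h3⟩ := hws ▸ hy
      exact T.not_side_of_shift hx (show (fun x => T.t * x) x ∈ T.side by rw [h3]; exact hy)
    · exact h2
  have hψBstab : ∀ x, ψB x ∈ T.stabOf oB := fun x => by
    show (k₁ : G)⁻¹ * (w * e (mm x) * w⁻¹) * ((k₁ : G)⁻¹)⁻¹ ∈ T.stabOf oB
    rw [T.mem_stabOf_smul,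
      show g₁⁻¹ * ((k₁ : G)⁻¹ * (w * e (mm x) * w⁻¹) * ((k₁ : G)⁻¹)⁻¹) * g₁ = e (mm x) by rw [hg₁]; group]
    exact T.dd_le (show e (mm x) ∈ T.Yg by rw [← hrange]; exact ⟨_, rfl⟩)
  have hψBsurj : ∀ g ∈ T.stabOf oB, ∃ x, ψB x = g := by
    intro g hg
    rw [T.mem_stabOf_smul] at hg
    have hg' : g₁⁻¹ * g * g₁ ∈ T.Yg := T.stabC_eq S ▸ hg
    obtain ⟨y, hy⟩ := hrange.ge hg'
    have hy' : m⁻¹ * (y : M) * m ∈ ev N b := mem_ev.2 ⟨by
      have h := (conj_commute_iff m⁻¹ (y : M) a).2 (mem_ev.1 y.2).1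
      rw [inv_inv] at h
      rwa [show m⁻¹ * a * m = b by rw [← hmb]; group] at h,
      by simpa using (inferInstance : N.Normal).conj_mem (y : M) (mem_ev.1 y.2).2 m⁻¹⟩
    refine ⟨⟨_, hy'⟩, ?_⟩
    show (k₁ : G)⁻¹ * (w * e (mm _) * w⁻¹) * ((k₁ : G)⁻¹)⁻¹ = g
    rw [show mm ⟨_, hy'⟩ = y from Subtype.ext (by show m * (m⁻¹ * (y : M) * m) * m⁻¹ = y; group), hy, hg₁]
    group
  have hψBinj : Function.Injective ψB := (MulAut.conj (k₁ : G)⁻¹).injective.comp ((MulAut.conj w).injective.comp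
    (he.comp fun x y h => Subtype.ext (by
      have h' : m * (x : M) * m⁻¹ = m * y * m⁻¹ := congrArg Subtype.val h
      simpa using h')))
  -- the copy at `c`, first up to one involution
  obtain ⟨vu, hvu, hvuel⟩ := T.side_subset S (y := u) ⟨e₀, he₀, hue₀⟩
  obtain ⟨y, hyY, hyo⟩ := T.transitive S (v := vu) (Relation.ReflTransGen.single hvu)
  obtain ⟨x₁, hx₁⟩ := hrange.ge hyY
  have hyt : y * T.t * y⁻¹ = u := by rw [← hvuel, ← hyo]; rfl
  have hx1b : (x₁ : M) * b * (x₁ : M)⁻¹ = c := by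
    have h : x₁ * ⟨_, hmem hb hab⟩ * x₁⁻¹ = ⟨_, hmem hc hac⟩ := he (by
      rw [map_mul, map_mul, map_inv, het, hx₁, hyt])
    have h' : (x₁ : M) * (a * b) * (x₁ : M)⁻¹ = a * c := congrArg Subtype.val h
    refine mul_left_cancel (a := a) ?_
    rw [← h', ← mul_assoc, ← mul_assoc, ← mul_assoc, ← (mem_ev.1 x₁.2).1.eq]
  have hxN : ∀ {z}, z ∈ ev N c → (x₁ : M)⁻¹ * z * (x₁ : M) ∈ ev N b := fun {z} hz => mem_ev.2
    ⟨by
      have h := (conj_commute_iff (x₁ : M)⁻¹ z c).2 (mem_ev.1 hz).1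
      rw [inv_inv] at h
      rwa [show (x₁ : M)⁻¹ * c * (x₁ : M) = b by rw [← hx1b]; group] at h,
      by simpa using (inferInstance : N.Normal).conj_mem z (mem_ev.1 hz).2 (x₁ : M)⁻¹⟩
  let xm : ↥(ev N c) →* ↥(ev N b) := MonoidHom.mk' (fun z => ⟨(x₁ : M)⁻¹ * z * x₁, hxN z.2⟩) fun z z' =>
    Subtype.ext (by show (x₁ : M)⁻¹ * ((z : M) * z') * x₁ = (x₁ : M)⁻¹ * z * x₁ * ((x₁ : M)⁻¹ * z' * x₁); group)
  let ψ' : ↥(ev N c) →* G := (MulAut.conj y).toMonoidHom.comp (ψB.comp xm)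
  have hX : ∀ (x : M) (h : x ∈ ev N a) (h' : x ∈ ev N c), e ⟨x, h⟩ = ψ' ⟨x, h'⟩ := by
    intro x h h'
    have h2 : (x₁ : M)⁻¹ * x * x₁ ∈ ev N a :=
      mul_mem (mul_mem (inv_mem x₁.2) h) x₁.2
    show _ = y * ψB (xm ⟨x, h'⟩) * y⁻¹
    rw [show ψB (xm ⟨x, h'⟩) = e ⟨_, h2⟩ from (hB _ h2 (hxN h')).symm,
      show (⟨_, h2⟩ : ↥(ev N a)) = x₁⁻¹ * ⟨x, h⟩ * x₁ from rfl, map_mul, map_mul, map_inv, hx₁]
    group
  -- the state on `t u`
  have hbc' : b * c ∈ ev N b := mem_ev.2 ⟨(Commute.refl b).mul_left hbc.symm, by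
    have := mul_mem (hN b hb) (hN c hc)
    rwa [hsq2] at this⟩
  have habB : a * b ∈ ev N b := mem_ev.2 ⟨hab.mul_left (Commute.refl b), hN b hb⟩
  have habC : a * b ∈ ev N c := mem_ev.2 ⟨hac.mul_left hbc, hN b hb⟩
  have hacB : a * c ∈ ev N b := mem_ev.2 ⟨hab.mul_left hbc.symm, hN c hc⟩
  have hacC : a * c ∈ ev N c := mem_ev.2 ⟨hac.mul_left (Commute.refl c), hN c hc⟩
  have hbcC : b * c ∈ ev N c := mem_ev.2 ⟨hbc.mul_left (Commute.refl c), (mem_ev.1 hbc').2⟩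
  have hsplit : ∀ {p : M} (h1 : a * b ∈ ev N p) (h2 : a * c ∈ ev N p) (h3 : b * c ∈ ev N p),
      (⟨b * c, h3⟩ : ↥(ev N p)) = ⟨_, h1⟩ * ⟨_, h2⟩ := fun h1 h2 h3 => Subtype.ext (by
    show b * c = a * b * (a * c)
    rw [hsq2])
  have hψbc : ψB ⟨_, hbc'⟩ = T.t * u := by
    rw [hsplit habB hacB hbc', map_mul, ← hB _ (hmem hb hab) habB, ← hB _ (hmem hc hac) hacB, het]
  have hψ'bc : ψ' ⟨_, hbcC⟩ = T.t * u := by
    rw [hsplit habC hacC hbcC, map_mul, ← hX _ (hmem hb hab) habC, ← hX _ (hmem hc hac) hacC, het]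
  obtain ⟨vB, hvB, hvBel⟩ : ∃ v : T.St, T.Adj oB v ∧ v.el = T.t * u := by
    have h : T.t * u ∈ oB.sd := by rw [hoBsd]; exact ⟨u, ⟨e₀, he₀, hue₀⟩, rfl⟩
    have h' : g₁⁻¹ * (T.t * u) * g₁ ∈ T.side := mem_cs.1 h
    obtain ⟨f, hf, hf'⟩ := h'
    obtain ⟨v, hv, hadj, -⟩ := T.exists_nbr S hf
    refine ⟨g₁ • v, (T.adj_smul g₁ T.o v).2 hadj, ?_⟩
    rw [Top.St.el_smul, hv, show (T.L f : G) = g₁⁻¹ * (T.t * u) * g₁ from hf']
    group
  obtain ⟨vX, hvX, hvXel⟩ : ∃ v : T.St, T.Adj (y • oB) v ∧ v.el = T.t * u := by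
    set d := (x₁ : M)⁻¹ * b * (x₁ : M) with hd
    have hdcls : d ∈ cls := by
      have := hinv (x₁ : M)⁻¹ b hb
      rwa [inv_inv] at this
    have hxa : (x₁ : M)⁻¹ * a * x₁ = a := by rw [mul_assoc, ← (mem_ev.1 x₁.2).1.eq, inv_mul_cancel_left]
    have hxc : (x₁ : M)⁻¹ * c * x₁ = b := by rw [← hx1b]; group
    have hda : Commute a d := by
      have h := (conj_commute_iff (x₁ : M)⁻¹ a b).2 hab
      rwa [inv_inv, hxa] at h
    have hdb : Commute b d := by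
      have h := (conj_commute_iff (x₁ : M)⁻¹ c b).2 hbc.symm
      rwa [inv_inv, hxc] at h
    have hdna : d ≠ a := fun h => hne (by rw [← hxa, hd] at h; simpa using h.symm)
    have hdnb : d ≠ b := fun h => hne3 (by rw [← hxc, hd] at h; simpa using h)
    have hs := hside hdcls hda hdna hdb hdnb (hmem hdcls hda)
    have h : T.t * e ⟨_, hmem hdcls hda⟩ ∈ oB.sd := by rw [hoBsd]; exact ⟨_, hs, rfl⟩
    have h' : g₁⁻¹ * (T.t * e ⟨_, hmem hdcls hda⟩) * g₁ ∈ T.side := mem_cs.1 h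
    obtain ⟨f, hf, hf'⟩ := h'
    obtain ⟨v, hv, hadj, -⟩ := T.exists_nbr S hf
    refine ⟨y • g₁ • v, (T.adj_smul y oB _).2 ((T.adj_smul g₁ T.o v).2 hadj), ?_⟩
    rw [Top.St.el_smul, Top.St.el_smul, hv, show (T.L f : G) = g₁⁻¹ * (T.t * e ⟨_, hmem hdcls hda⟩) * g₁ from hf',
      ← hψ'bc]
    show _ = y * ψB (xm ⟨_, hbcC⟩) * y⁻¹
    have hadB : a * d ∈ ev N b := mem_ev.2 ⟨hab.mul_left hdb.symm, hN d hdcls⟩
    have hx : xm ⟨_, hbcC⟩ = ⟨_, habB⟩ * ⟨_, hadB⟩ := Subtype.ext (by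
      show (x₁ : M)⁻¹ * (b * c) * x₁ = a * b * (a * d)
      rw [show (x₁ : M)⁻¹ * (b * c) * x₁ = d * ((x₁ : M)⁻¹ * c * x₁) by rw [hd]; group, hxc, ← hdb.eq, hsq2])
    rw [hx, map_mul ψB, ← hB _ (hmem hb hab) habB, ← hB _ (hmem hdcls hda) hadB, het]
    group
  have hKeq : T.Kv vX = T.Kv vB := T.Kv_congr S (hvXel.trans hvBel.symm)
  have hconnB : Relation.ReflTransGen T.R oB vB := Relation.ReflTransGen.single (Or.inr hvB)
  have hconnX : Relation.ReflTransGen T.R (y • oB) vX := Relation.ReflTransGen.single (Or.inr hvX)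
  have hfrom' : ∀ k : ↥(T.Kv vB), ∃ x : ↥(ev N b), Commute (x : M) c ∧ ψB x = k := fun k => by
    obtain ⟨h1, h2⟩ := (T.Kv_iff S hconnB).1 k.2
    obtain ⟨x, hx⟩ := hψBsurj _ h1
    refine ⟨x, ?_, hx⟩
    rw [hvBel, ← hψbc, ← hx] at h2
    have h3 : Commute (x : M) (b * c) := commute_of_map ψB hψBinj h2
    rw [show c = b⁻¹ * (b * c) by rw [inv_mul_cancel_left]]
    exact (mem_ev.1 x.2).1.inv_right.mul_right h3
  choose pre' hpre₁' hpre₂' using hfrom'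
  have hpreC : ∀ k, (pre' k : M) ∈ ev N c := fun k => mem_ev.2 ⟨hpre₁' k, (mem_ev.1 (pre' k).2).2⟩
  have hθ'mem : ∀ k, ψ' ⟨_, hpreC k⟩ ∈ T.Kv vB := fun k => by
    rw [← hKeq, T.Kv_iff S hconnX]
    refine ⟨?_, ?_⟩
    · show y * ψB (xm _) * y⁻¹ ∈ T.stabOf (y • oB)
      rw [T.mem_stabOf_smul]
      simpa [mul_assoc] using hψBstab _
    · rw [hvXel, ← hψ'bc]
      exact (show Commute (⟨_, hpreC k⟩ : ↥(ev N c)) ⟨_, hbcC⟩ from Subtype.ext
        ((mem_ev.1 (pre' k).2).1.mul_right (hpre₁' k)).eq).map ψ'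
  have hpre'_mul : ∀ k l, pre' (k * l) = pre' k * pre' l := fun k l => hψBinj (by
    rw [map_mul, hpre₂', hpre₂', hpre₂']; rfl)
  let θ' : ↥(T.Kv vB) →* ↥(T.Kv vB) := MonoidHom.mk' (fun k => ⟨ψ' ⟨_, hpreC k⟩, hθ'mem k⟩)
    fun k l => Subtype.ext (by
      show ψ' _ = ψ' _ * ψ' _
      rw [← map_mul]
      exact congrArg ψ' (Subtype.ext (show (pre' (k * l) : M) = (pre' k : M) * (pre' l : M) by rw [hpre'_mul]; rfl)))
  have hxm : Function.Injective xm := fun z z' h => Subtype.ext (by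
    have h' : (x₁ : M)⁻¹ * (z : M) * x₁ = (x₁ : M)⁻¹ * z' * x₁ := congrArg Subtype.val h
    simpa using h')
  have hθ'inj : Function.Injective θ' := fun k l h => by
    have hi : Function.Injective ψ' := (MulAut.conj y).injective.comp (hψBinj.comp hxm)
    have h1 := congrArg Subtype.val (hi (congrArg Subtype.val h))
    exact Subtype.ext (by rw [← hpre₂' k, ← hpre₂' l]; exact congrArg ψB (Subtype.ext h1))
  have hfix : ∀ k : ↥(T.Kv vB), Commute (k : G) T.t → θ' k = k := fun k hk => by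
    refine Subtype.ext ?_
    have h3 : Commute (pre' k : M) a := by
      have h1 : Commute (ψB (pre' k)) (ψB ⟨_, habB⟩) := by rw [hpre₂', ← hB _ (hmem hb hab) habB, het]; exact hk
      have h2 : Commute (pre' k : M) (a * b) := commute_of_map ψB hψBinj h1
      rw [show a = (a * b) * b⁻¹ by rw [mul_inv_cancel_right]]
      exact h2.mul_right (mem_ev.1 (pre' k).2).1.inv_right
    have h4 : (pre' k : M) ∈ ev N a := mem_ev.2 ⟨h3, (mem_ev.1 (pre' k).2).2⟩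
    show ψ' ⟨_, hpreC k⟩ = _
    rw [← hX _ h4 (hpreC k), hB _ h4 (pre' k).2]
    exact hpre₂' k
  obtain ⟨k₂, hk₂⟩ := T.inner S (v := vB) (w := oB) (w' := oB) (T.refl_R.symm (Or.inr hvB) |>.resolve_left
    (fun h => T.el_not_sd oB (h ▸ hvB.1))) (T.refl_R.symm (Or.inr hvB) |>.resolve_left
    (fun h => T.el_not_sd oB (h ▸ hvB.1))) θ' hθ'inj
    (fun h => congrArg Subtype.val (hfix ⟨oB.el, h⟩ (by rw [← hoBel])))
  have hk₂c : ∀ x ∈ T.Kv vB, Commute x oB.el → Commute (k₂ : G) x := fun x hx hxc => by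
    have h := congrArg Subtype.val ((hfix ⟨x, hx⟩ (hoBel ▸ hxc)).symm.trans (hk₂ ⟨x, hx⟩))
    exact mul_inv_eq_iff_eq_mul.1 h.symm
  have hucomm : ∀ (x : M) (h : x ∈ ev N a), x ∈ ev N c → Commute u (e ⟨x, h⟩) := fun x h h' =>
    ((show Commute (⟨x, h⟩ : ↥(ev N a)) ⟨_, hmem hc hac⟩ from Subtype.ext
      ((mem_ev.1 h).1.mul_right (mem_ev.1 h').1).eq).map e).symm
  -- the correction
  obtain ⟨ε, hε0, hεk⟩ : ∃ ε : G, (∀ (x : M) (h : x ∈ ev N a), x ∈ ev N c → Commute ε (e ⟨x, h⟩)) ∧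
      ∀ x ∈ T.Kv vB, Commute (ε * (k₂ : G)) x := by
    have hcen : ∀ x ∈ T.Kv vB, Commute (T.t * u) x := fun x hx => hvBel ▸ (T.el_comm hx).symm
    have hu2 : u * u = 1 := by rw [← hue₀]; exact congrArg Subtype.val (T.sect.sq e₀ he₀)
    rcases T.cent_edge S (T.refl_R.symm (Or.inr hvB) |>.resolve_left (fun h => T.el_not_sd oB (h ▸ hvB.1)))
      k₂.2 hk₂c with h | h | h | h
    · exact ⟨1, fun _ _ _ => Commute.one_left _, fun x _ => by rw [h, one_mul]; exact Commute.one_left x⟩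
    · exact ⟨1, fun _ _ _ => Commute.one_left _, fun x hx => by rw [h, hvBel, one_mul]; exact hcen x hx⟩
    · refine ⟨u, hucomm, fun x hx => ?_⟩
      rw [h, hoBel, show u * T.t = T.t * u from (by rw [← hue₀]; exact (T.le _ (T.L e₀).2).eq)]
      exact hcen x hx
    · refine ⟨u, hucomm, fun x hx => ?_⟩
      have hut : u * T.t = T.t * u := by rw [← hue₀]; exact (T.le _ (T.L e₀).2).eq
      rw [h, hvBel, hoBel, show u * (T.t * u * T.t) = 1 by
        rw [show T.t * u * T.t = T.t * (u * T.t) by group, hut, ← mul_assoc T.t, T.sq, one_mul, hu2]]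
      exact Commute.one_left x
  refine ⟨ψB, (MulAut.conj ε).toMonoidHom.comp ψ', hB, fun x h h' => ?_, fun x h h' => ?_⟩
  · show _ = ε * ψ' ⟨x, h'⟩ * ε⁻¹
    rw [← hX x h h', (hε0 x h h').eq, mul_inv_cancel_right]
  · have hxK : ψB ⟨x, h⟩ ∈ T.Kv vB := by
      rw [T.Kv_iff S hconnB, hvBel, ← hψbc]
      exact ⟨hψBstab _, (show Commute (⟨x, h⟩ : ↥(ev N b)) ⟨_, hbc'⟩ from Subtype.ext
        ((mem_ev.1 h).1.mul_right (mem_ev.1 h').1).eq).map ψB⟩
    have hp : (pre' ⟨_, hxK⟩ : M) = x := congrArg Subtype.val (hψBinj (hpre₂' ⟨_, hxK⟩))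
    have h1 : ψ' ⟨x, h'⟩ = (k₂ : G) * ψB ⟨x, h⟩ * (k₂ : G)⁻¹ :=
      (congrArg ψ' (Subtype.ext hp.symm)).trans (congrArg Subtype.val (hk₂ ⟨_, hxK⟩))
    show _ = ε * ψ' ⟨x, h'⟩ * ε⁻¹
    rw [h1, show ε * ((k₂ : G) * ψB ⟨x, h⟩ * (k₂ : G)⁻¹) * ε⁻¹ = ε * k₂ * ψB ⟨x, h⟩ * (ε * k₂)⁻¹ by group,
      (hεk _ hxK).eq, mul_inv_cancel_right]

end Cfsg.Agent.Lib.Fi24Recog30
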