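import Cfsg.Agent.Lib.FischerExist27.M24Stab
import Cfsg.Agent.Lib.Fi24.Class
import Cfsg.Agent.Lib.Fi24.Out.Main
import Cfsg.Agent.Lib.FischerMTypes.TypeM23
import Cfsg.Agent.Lib.FischerUniq91.Eight.Main

/-!
In the presented Fi24 the even centraliser of the base transposition is Fi23, its class being the
products of the base with the transpositions commuting with it.
-/

set_option autoImplicit false
set_option maxRecDepth 20000
set_option linter.style.haveILetI false
set_option linter.unusedSectionVars false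

namespace Cfsg.Agent.Lib.Fi24Recog30

open Cfsg.Agent.Lib
open Cfsg.Agent.Lib.Fi24 (G xg)
open Cfsg.Agent.Lib.FischerExist27
open Cfsg.Agent.Lib.FischerMTypes.Basic
open scoped commutatorElement

/-- the transpositions commuting with the base one, other than it -/
def perp0 : Set G := {y | y ∈ conjugatesOf (xg 0) ∧ y ≠ xg 0 ∧ Commute (xg 0) y}

theorem xg0_sq : xg 0 * xg 0 = 1 := Fi24.xg_sq (by omega)

theorem xg0_odd : xg 0 ∉ commutator G := fun h =>
  Fi24.Out.parity_odd (w := [0]) rfl (by simpa [Fi24.Out.val] using (Fi24.Out.mem_derived_iff _).1 h)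

theorem mul_conj_mem {g : G} : xg 0 * (g * xg 0 * g⁻¹) ∈ commutator G := by
  have h : ⁅xg 0, g⁆ ∈ commutator G :=
    Subgroup.commutator_mem_commutator (Subgroup.mem_top _) (Subgroup.mem_top _)
  rw [commutatorElement_def, inv_eq_of_mul_eq_one_right xg0_sq] at h
  simpa [mul_assoc] using h

theorem perp0_mul_mem {y : G} (hy : y ∈ conjugatesOf (xg 0)) : xg 0 * y ∈ commutator G := by
  obtain ⟨g, rfl⟩ := isConj_iff.1 (show IsConj (xg 0) y from hy)
  exact mul_conj_mem

theorem conj_perp0 {h y : G} (hh : Commute h (xg 0)) (hy : y ∈ perp0) : h * y * h⁻¹ ∈ perp0 := by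
  obtain ⟨h1, h2, h3⟩ := hy
  have e : h * xg 0 * h⁻¹ = xg 0 := by rw [hh.eq, mul_inv_cancel_right]
  refine ⟨IsConj.trans (show IsConj (xg 0) y from h1) (isConj_iff.2 ⟨h, rfl⟩), fun c => h2 ?_, ?_⟩
  · rw [← e] at c; simpa using c
  · have := (commute_conj_iff h (xg 0) y).2 h3
    simp only [MulAut.conj_apply] at this
    rwa [e] at this

set_option maxHeartbeats 1000000 in
/-- the perp group is the centraliser, with centre generated by the transposition and quotient Fi23 -/
theorem perp0_facts : Finite G ∧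
    Subgroup.closure perp0 = Subgroup.centralizer ({xg 0} : Set G) ∧
    (∀ x : G, Commute x (xg 0) → (∀ y, Commute y (xg 0) → Commute x y) → x = 1 ∨ x = xg 0) ∧
    (∀ d ∈ perp0, ∀ d' ∈ perp0, ∃ h, Commute h (xg 0) ∧ h * d * h⁻¹ = d') ∧
    Cfsg.IsOfTypeM23 (↥(Subgroup.closure perp0) ⧸ Subgroup.center ↥(Subgroup.closure perp0))
      ((QuotientGroup.mk : ↥(Subgroup.closure perp0) → _) ''
        {x : ↥(Subgroup.closure perp0) | (x : G) ∈ perp0}) := by
  obtain ⟨ρ, ρ₂₃, A⟩ := M24.exists_action (Fi24.cosetAction_of_points Fi24.points_ok)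
  obtain ⟨h, C, -⟩ := M24.exists_class A
  obtain ⟨F⟩ := Fi24.Out.nonempty_oFacts
  have hS : perp0 = {y : G | y ∈ Set.range h.pt ∧ y ≠ M24.d ∧ Commute M24.d y} := by
    rw [h.range_pt]
    rfl
  have hH : Subgroup.closure perp0 = Subgroup.centralizer ({xg 0} : Set G) := by
    rw [hS, M24.closure_eq A C, F.centralizer_l]
  refine ⟨Finite.of_injective ρ A.inj, hH, fun x hx hcen => ?_, fun d hd d' hd' => ?_, ?_⟩
  · obtain ⟨ρ', σ, -, -, -, -, hσ, hker, -⟩ := Fi24.hFacts
    have hmem : ∀ {y : G}, y ∈ Fi24.H ↔ Commute y (xg 0) := fun {y} => by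
      rw [← F.centralizer_l, Subgroup.mem_centralizer_singleton_iff]; rfl
    have hcen' : σ ⟨x, hmem.2 hx⟩ ∈ Subgroup.center Cfsg.Spor.Fi23 := Subgroup.mem_center_iff.2 fun q => by
      obtain ⟨y, rfl⟩ := hσ q
      rw [← map_mul, ← map_mul]
      exact congrArg σ (Subtype.ext (hcen y.1 (hmem.1 y.2)).eq.symm)
    have hbot : Subgroup.center Cfsg.Spor.Fi23 = ⊥ := by
      obtain ⟨hs, hc⟩ := Cfsg.Agent.S1697.result
      haveI := hs
      refine (inferInstance : (Subgroup.center Cfsg.Spor.Fi23).Normal).eq_bot_or_eq_top.resolve_right fun he => ?_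
      letI : CommGroup Cfsg.Spor.Fi23 := { (inferInstance : Group Cfsg.Spor.Fi23) with
        mul_comm := fun a b => Subgroup.mem_center_iff.1 (he ▸ Subgroup.mem_top b) a }
      haveI : Finite Cfsg.Spor.Fi23 := Nat.finite_of_card_ne_zero (by rw [hc]; norm_num)
      have hp : (Nat.card Cfsg.Spor.Fi23).Prime := IsSimpleGroup.prime_card
      rw [hc] at hp
      exact absurd (hp.eq_one_or_self_of_dvd 2 (by norm_num)) (by norm_num)
    rw [hbot, Subgroup.mem_bot] at hcen'
    exact (hker _).1 hcen'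
  · rw [hS, M24.commuting_eq A C] at hd hd'
    obtain ⟨_, ⟨m, rfl⟩, rfl⟩ := hd
    obtain ⟨_, ⟨m', rfl⟩, rfl⟩ := hd'
    obtain ⟨s, hs, hs'⟩ := A.trans23 m m'
    refine ⟨s, ?_, by rw [h.pt_conj, hs']⟩
    rw [← F.centralizer_l] at hs
    exact Subgroup.mem_centralizer_singleton_iff.1 hs
  · have := M24.type_stab A C
    rwa [← hS] at this

/-- the even centraliser of the base transposition -/
abbrev even0 : Subgroup G := Subgroup.centralizer ({xg 0} : Set G) ⊓ commutator G

theorem pair_mem_even0 {y : G} (hy : y ∈ perp0) : xg 0 * y ∈ even0 :=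
  ⟨Subgroup.mem_centralizer_singleton_iff.2 ((Commute.refl (xg 0)).mul_left hy.2.2.symm).eq, perp0_mul_mem hy.1⟩

/-- the class of products with the base transposition -/
def duads0 : Set ↥even0 := {x | ∃ y ∈ perp0, (x : G) = xg 0 * y}

set_option maxHeartbeats 1000000 in
/-- the even centraliser is of type M(23) on the products -/
theorem even0_type : Finite ↥even0 ∧ Cfsg.IsThreeTranspositionGroup duads0 ∧
    Cfsg.IsPrimitiveUnderConj duads0 ∧ Cfsg.IsOfTypeM23 ↥even0 duads0 := by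
  obtain ⟨hfin, hH, hcen, -, htype⟩ := perp0_facts
  obtain ⟨F⟩ := Fi24.Out.nonempty_oFacts
  haveI := hfin
  have hmem : ∀ {y : G}, y ∈ Subgroup.closure perp0 ↔ Commute y (xg 0) := fun {y} => by
    rw [hH, Subgroup.mem_centralizer_singleton_iff]; rfl
  let H' := Subgroup.closure perp0
  let f : ↥even0 →* ↥H' ⧸ Subgroup.center ↥H' :=
    (QuotientGroup.mk' _).comp (Subgroup.inclusion (fun x hx => hH.ge (Subgroup.mem_inf.1 hx).1))
  have hl : (⟨xg 0, hmem.2 (Commute.refl _)⟩ : ↥H') ∈ Subgroup.center ↥H' :=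
    Subgroup.mem_center_iff.2 fun y => Subtype.ext (hmem.1 y.2).eq
  have hinj : Function.Injective f := (injective_iff_map_eq_one f).2 fun x hx => by
    have h1 : (Subgroup.inclusion (fun x hx => hH.ge (Subgroup.mem_inf.1 hx).1) x : ↥H') ∈ Subgroup.center ↥H' :=
      (QuotientGroup.eq_one_iff _).1 hx
    rcases hcen (x : G) (Subgroup.mem_centralizer_singleton_iff.1 (Subgroup.mem_inf.1 x.2).1) (fun y hy =>
      (congrArg Subtype.val (Subgroup.mem_center_iff.1 h1 ⟨y, hmem.2 hy⟩)).symm) with e | e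
    · exact Subtype.ext e
    · exact absurd (e ▸ (Subgroup.mem_inf.1 x.2).2) xg0_odd
  have hsurj : Function.Surjective f := fun q => by
    obtain ⟨⟨y, hy⟩, rfl⟩ := QuotientGroup.mk'_surjective _ q
    by_cases hyN : y ∈ commutator G
    · exact ⟨⟨y, Subgroup.mem_inf.2 ⟨hH.le hy, hyN⟩⟩, rfl⟩
    · refine ⟨⟨y * xg 0, Subgroup.mem_inf.2 ⟨mul_mem (hH.le hy) (hH.le (hmem.2 (Commute.refl _))),
        (Subgroup.mul_mem_iff_of_index_two Cfsg.Agent.S1691.result).2 (iff_of_false hyN xg0_odd)⟩⟩, ?_⟩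
      show QuotientGroup.mk' _ (⟨y * xg 0, _⟩ : ↥H') = QuotientGroup.mk' _ ⟨y, hy⟩
      refine QuotientGroup.eq.2 ?_
      convert Subgroup.inv_mem _ hl using 1
      refine Subtype.ext ?_
      show (y * xg 0)⁻¹ * y = (xg 0)⁻¹
      group
  let e := (MulEquiv.ofBijective f ⟨hinj, hsurj⟩).symm
  set img := (QuotientGroup.mk : ↥H' → ↥H' ⧸ Subgroup.center ↥H') '' {x : ↥H' | (x : G) ∈ perp0} with himg
  have hval : ∀ y (hy : y ∈ perp0), f ⟨_, pair_mem_even0 hy⟩ = QuotientGroup.mk' _ ⟨y, Subgroup.subset_closure hy⟩ := by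
    intro y hy
    show QuotientGroup.mk' _ (⟨xg 0 * y, _⟩ : ↥H') = _
    rw [show (⟨xg 0 * y, _⟩ : ↥H') = ⟨xg 0, hmem.2 (Commute.refl _)⟩ * ⟨y, Subgroup.subset_closure hy⟩ from rfl,
      map_mul, show QuotientGroup.mk' (Subgroup.center ↥H') ⟨xg 0, _⟩ = 1 from (QuotientGroup.eq_one_iff _).2 hl,
      one_mul]
  have hfd : f '' duads0 = img := by
    ext q
    constructor
    · rintro ⟨x, ⟨y, hy, hxy⟩, rfl⟩
      refine ⟨⟨y, Subgroup.subset_closure hy⟩, hy, ?_⟩
      rw [show x = ⟨_, pair_mem_even0 hy⟩ from Subtype.ext hxy, hval y hy]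
      rfl
    · rintro ⟨⟨y, hy'⟩, hy, rfl⟩
      exact ⟨⟨_, pair_mem_even0 hy⟩, ⟨y, hy, rfl⟩, hval y hy⟩
  have hD : Cfsg.IsThreeTranspositionGroup duads0 := by
    have hcls := F.isThreeTranspositionClass
    have htr : ∀ y, y ∈ perp0 → y ∈ Fi24.Out.transps := fun y hy => by
      obtain ⟨-, ⟨d, hd, hdeq⟩, -⟩ := hcls
      rw [hdeq]
      have h0 : IsConj d (xg 0) := by
        have : Fi24.Out.tau (Fi24.pt0 : Fin 306936).1 ∈ conjugatesOf d := hdeq ▸ ⟨Fi24.pt0, rfl⟩
        rwa [show (Fi24.pt0 : Fin 306936).1 = 0 from rfl, Fi24.Out.tau_zero] at this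
      exact h0.trans hy.1
    refine ⟨⟨?_, ?_⟩, ?_, ?_⟩
    · rintro x ⟨y, hy, hxy⟩
      refine orderOf_eq_prime (Subtype.ext ?_) fun e => hy.2.1 ?_
      · show ((x ^ 2 : ↥even0) : G) = 1
        rw [SubgroupClass.coe_pow, hxy, hy.2.2.mul_pow, pow_two, xg0_sq, one_mul, pow_two]
        exact mul_self_of_order (hcls.1.1 y (htr y hy))
      · have : xg 0 * y = 1 := hxy ▸ congrArg Subtype.val e
        rw [← inv_eq_of_mul_eq_one_right this, inv_eq_of_mul_eq_one_right xg0_sq]
    · rintro x ⟨y, hy, hxy⟩ x' ⟨y', hy', hxy'⟩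
      have e : ((x * x' : ↥even0) : G) = y * y' := by
        rw [Subgroup.coe_mul, hxy, hxy', show xg 0 * y * (xg 0 * y') = (xg 0 * xg 0) * (y * y') by
          rw [show xg 0 * y * (xg 0 * y') = xg 0 * (y * xg 0) * y' by group, ← hy.2.2.eq]; group, xg0_sq, one_mul]
      exact (hcls.1.2 y (htr y hy) y' (htr y' hy')).imp
        (fun h => Subtype.ext (by rw [SubgroupClass.coe_pow, e]; exact h))
        (fun h => Subtype.ext (by rw [SubgroupClass.coe_pow, e]; exact h))
    · rintro g x ⟨y, hy, hxy⟩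
      have hg : Commute (g : G) (xg 0) := Subgroup.mem_centralizer_singleton_iff.1 (Subgroup.mem_inf.1 g.2).1
      refine ⟨_, conj_perp0 hg hy, ?_⟩
      show (g : G) * (x : G) * (g : G)⁻¹ = _
      rw [hxy]
      calc (g : G) * (xg 0 * y) * (g : G)⁻¹ = ((g : G) * xg 0) * (y * (g : G)⁻¹) := by simp only [mul_assoc]
        _ = (xg 0 * g) * (y * (g : G)⁻¹) := by rw [hg.eq]
        _ = _ := by simp only [mul_assoc]
    · rw [eq_top_iff]
      intro x _
      have h1 : f x ∈ Subgroup.closure img := by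
        rw [himg, ← QuotientGroup.coe_mk' (Subgroup.center ↥H'), ← MonoidHom.map_closure]
        rw [show Subgroup.closure {x : ↥H' | (x : G) ∈ perp0} = ⊤ from Subgroup.closure_closure_coe_preimage]
        rw [← MonoidHom.range_eq_map, QuotientGroup.range_mk']
        exact Subgroup.mem_top _
      rw [← hfd, ← MonoidHom.map_closure] at h1
      obtain ⟨w, hw, hwx⟩ := h1
      exact hinj hwx ▸ hw
  have hfd' : duads0 = e '' img := by
    rw [← hfd, Set.image_image]
    refine (Set.image_id _).symm.trans (Set.image_congr fun x _ => ?_)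
    exact ((MulEquiv.ofBijective f ⟨hinj, hsurj⟩).symm_apply_apply x).symm
  have ht : Cfsg.IsOfTypeM23 ↥even0 duads0 := by
    rw [hfd']
    exact typeM23_of_equiv e rfl htype
  exact ⟨inferInstance, hD, FischerMTypes.TypeM23.primitive_of_M23 hD ht, ht⟩
where
  mul_self_of_order {y : G} (h : orderOf y = 2) : y * y = 1 := by rw [← pow_two, ← h, pow_orderOf_eq_one]

end Cfsg.Agent.Lib.Fi24Recog30
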