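import Cfsg.Agent.Lib.Fi24Recog30.Comp
import Cfsg.Agent.Lib.Fi23Recog30.Main

/-!
The group of a component is the presented Fi23, the involutions of the component being its class.
-/

set_option autoImplicit false
set_option linter.style.haveILetI false
set_option linter.unusedSectionVars false

namespace Cfsg.Agent.Lib.Fi24Recog30

open Cfsg.Agent.Lib.FischerMTypes.Basic Cfsg.Agent.Lib.FischerMTypes.Primitive
  Cfsg.Agent.Lib.FischerMTypes.Step
open Cfsg.Agent.Lib.FischerMTypes.TraceCounts (Sys)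

universe u

variable {G : Type u} [Group G] [Finite G] {E : Set Cfsg.Spor.Fi22} [Finite Cfsg.Spor.Fi22]
variable {F : Type} [Field F] [Fintype F] {T : Top G Cfsg.Spor.Fi22 E}

/-- the class in the group of the component -/
def Top.ddY (T : Top G Cfsg.Spor.Fi22 E) : Set ↥T.Yg := {x | (x : G) ∈ T.dd}

theorem Top.ddY_eq (S : Sys E F) : T.ddY = conjugatesOf (⟨T.t, T.t_mem⟩ : ↥T.Yg) := by
  ext x
  constructor
  · rintro ⟨v, hv, hvx⟩
    obtain ⟨y, hy, rfl⟩ := T.transitive S hv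
    exact isConj_iff.2 ⟨⟨y, hy⟩, Subtype.ext hvx⟩
  · intro hx
    obtain ⟨g, rfl⟩ := isConj_iff.1 (show IsConj _ x from hx)
    exact ⟨(g : G) • T.o, T.dd_le g.2, rfl⟩

/-- the group of the component is Fi23, generators going to the class -/
theorem Top.yg_iso (S : Sys E F) :
    ∃ e : Cfsg.Spor.Fi23 ≃* ↥T.Yg, ∀ p, e (PresentedGroup.of p) ∈ T.ddY := by
  obtain ⟨hord, hq, hiso, hnwc⟩ := T.fi23_setting S
  set t₀ : ↥T.Yg := ⟨T.t, T.t_mem⟩ with ht₀
  haveI hN : ((Subgroup.zpowers t₀).subgroupOf (Subgroup.centralizer ({t₀} : Set ↥T.Yg))).Normal := by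
    refine ⟨fun n hn g => ?_⟩
    obtain ⟨k, hk⟩ := Subgroup.mem_zpowers_iff.1 (Subgroup.mem_subgroupOf.1 hn)
    have hg : Commute (g : ↥T.Yg) (n : ↥T.Yg) := by
      rw [← hk]
      exact (show Commute (g : ↥T.Yg) t₀ from Subgroup.mem_centralizer_singleton_iff.1 g.2).zpow_right k
    rwa [show g * n * g⁻¹ = n from Subtype.ext (by
      show (g : ↥T.Yg) * (n : ↥T.Yg) * (g : ↥T.Yg)⁻¹ = n
      rw [hg.eq, mul_inv_cancel_right])]
  obtain ⟨Q', iQ, iQ', E', F', iF, iF', S', π, z, L, B, T', A, hz, b⟩ :=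
    Fi23Recog30.exists_setting t₀ hord hq (hiso hN) hnwc
  obtain ⟨D⟩ := Fi23Recog30.exists_step S' b
  have hzD : (z : ↥T.Yg) ∈ conjugatesOf (z : ↥T.Yg) := mem_conjugatesOf_self
  obtain ⟨k, hk, x, hx, hkx⟩ := D.exists_perp_noncomm FischerMTypes.M23Data.small hzD
  have hne : (perp₂ (conjugatesOf (z : ↥T.Yg)) k x).Nonempty :=
    ⟨(z : ↥T.Yg), ⟨hzD, Ne.symm hk.2.1, hk.2.2.symm⟩, hzD, Ne.symm hx.2.1, hx.2.2.symm⟩
  have hxn : x ∈ FischerMTypes.TraceCounts.near (conjugatesOf (z : ↥T.Yg)) k := ⟨hx.1, hkx, hne⟩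
  have h351 : (perp₂ (conjugatesOf (z : ↥T.Yg)) k x).ncard = 351 := le_antisymm
    (Fi23Recog30.trace_le S' (FischerM23C90.chart_all S' b) hk.1 hx.1 hkx hne)
    (FischerMTypes.M23Data.trace_bounds (F := F') D hk.1 hxn).1
  have htr : ∀ c ∈ conjugatesOf (z : ↥T.Yg), ∀ y ∈ FischerMTypes.TraceCounts.near (conjugatesOf (z : ↥T.Yg)) c,
      (perp₂ (conjugatesOf (z : ↥T.Yg)) c y).ncard = 351 := fun c hc y hy => by
    rw [D.ncard_trace_eq hc hy hk.1 hxn, h351]
  obtain ⟨e, he⟩ := FischerUniq91.Eight.Main.exists_iso S' D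
    { small := FischerMTypes.M23Data.small
      self := fun a ha => Fi23Recog30.self_mem S' b ha
      trace_card := htr
      meet := fun c hc y hy f hf hf' => by
        rw [(FischerMTypes.M23Data.trace_bounds (F := F') D hc hy).2.2 (htr c hc y hy) f hf hf']
        norm_num
      big_edge := by norm_num
      big_trace := by norm_num }
  refine ⟨e, fun p => ?_⟩
  rw [T.ddY_eq S, ← ht₀, ← hz]
  exact he p

end Cfsg.Agent.Lib.Fi24Recog30
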