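import Cfsg.Agent.Lib.Fi24Recog30.SideTop
import Cfsg.Agent.Lib.Fi24Recog30.Glue
import Cfsg.Agent.Lib.Fi24Recog30.Model23
import Cfsg.Agent.Lib.Fi24Recog30.YClass
import Cfsg.Agent.Lib.Fi24Recog91.Frames

/-!
The three copies of Fi23 in a group of large Fischer type.
-/

set_option autoImplicit false
set_option maxRecDepth 20000
set_option linter.style.haveILetI false
set_option linter.unusedSectionVars false

namespace Cfsg.Agent.Lib.Fi24Recog30

open Cfsg Cfsg.Agent.Lib Cfsg.Agent.Lib.LargeFischer13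
open Cfsg.Agent.Lib.FischerLarge75 (PairCentraliser exists_frame exists_model fi22_facts)
open Cfsg.Agent.Lib.FischerMTypes.TraceCounts (Sys exists_sys)
open Cfsg.Agent.Lib.Fi24Recog91 (M evenCent evenCent₂ ptA ptB ptX Frames)
open Cfsg.Agent.Lib.Fi24.Out (tau)

attribute [local irreducible] Fi24.table Fi24.tree Fi24.small Fi24.big Fi24.subPos Fi24.bigTree

universe u

theorem tau_mem_cls (p : ℕ) : tau p ∈ conjugatesOf (Fi24.xg 0) :=
  isConj_iff.2 ⟨(Fi24.Cert.rep Fi24.xg Fi24.tree p)⁻¹, by rw [inv_inv]; rfl⟩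

theorem tau_pair (F : Fi24.Out.OFacts) (p q : ℕ) (hp : p < 306936) (hq : q < 306936)
    (h : Fi24.Out.reflp p q = q) (hne : p ≠ q) : Commute (tau p) (tau q) ∧ tau p ≠ tau q := by
  refine ⟨?_, fun e => hne (congrArg Fin.val (F.tau_injective (a₁ := ⟨p, hp⟩) (a₂ := ⟨q, hq⟩) e))⟩
  have h1 : F.mv (tau p) ⟨q, hq⟩ = ⟨q, hq⟩ := Fin.ext ((F.reflp_eq ⟨p, hp⟩ ⟨q, hq⟩).symm.trans h)
  have h2 := F.tau_mv (tau p) ⟨q, hq⟩
  rw [h1] at h2
  have h3 : (tau p)⁻¹ * tau q * tau p = tau q := h2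
  show tau p * tau q = tau q * tau p
  conv_lhs => rw [← h3]
  group

set_option maxHeartbeats 1000000 in
/-- the frames -/
theorem exists_frames {G : Type u} [Group G] [Finite G] {z : G} {Q : Subgroup (Subgroup.centralizer ({z} : Set G))}
    [Q.Normal] (hF : Cfsg.IsOfLargeFischerTypeAt z Q) (h5450 : PairCentraliser.{u}) :
    Nonempty (Frames G z) := by
  haveI := fi22_facts.1
  obtain ⟨E, -, hcl, hprim, hty⟩ := exists_model
  obtain ⟨Fd, iF, iF', ⟨S⟩⟩ := exists_sys (Fi23Recog30.group_of_class hcl) hprim hty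
  obtain ⟨Fr⟩ := exists_frame hF
  obtain ⟨p, q, hpq, htQ⟩ := Fr.duadQ
  obtain ⟨T, htt, -, -⟩ := exists_top h5450 hF S Fr hpq htQ
  obtain ⟨FO⟩ := Fi24.Out.nonempty_oFacts
  obtain ⟨hMfin, -, -, htrans, -⟩ := perp0_facts
  obtain ⟨hevfin, hD0, hprim0, htype0⟩ := even0_type
  haveI := hMfin
  -- the model class
  obtain ⟨e0, he0⟩ := FischerUniq91.Eight.Main.exists_iso' hD0 hprim0 htype0
  obtain ⟨e1, he1⟩ := T.yg_iso S
  have hconjY : ∀ (g : ↥T.Yg) x, x ∈ T.ddY → g * x * g⁻¹ ∈ T.ddY := fun g x hx => by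
    rw [T.ddY_eq S] at hx ⊢
    exact IsConj.trans hx (isConj_iff.2 ⟨g, rfl⟩)
  let e : ↥even0 ≃* ↥T.Yg := e0.symm.trans e1
  have hecls : ∀ x ∈ duads0, e x ∈ T.ddY := by
    intro x hx
    obtain ⟨g, rfl⟩ := hprim0.1 _ (he0 .a) x hx
    rw [map_mul, map_mul, map_inv, show e (e0 (PresentedGroup.of .a)) = e1 (PresentedGroup.of .a) by simp [e]]
    exact hconjY _ _ (he1 .a)
  -- the points
  obtain ⟨c0B, n0B⟩ := tau_pair FO 0 ptB (by omega) (by norm_num [ptB]) (by decide +kernel) (by norm_num [ptB])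
  obtain ⟨c0X, n0X⟩ := tau_pair FO 0 ptX (by omega) (by norm_num [ptX]) (by decide +kernel) (by norm_num [ptX])
  obtain ⟨c0A, n0A⟩ := tau_pair FO 0 ptA (by omega) (by norm_num [ptA]) (by decide +kernel) (by norm_num [ptA])
  obtain ⟨cBX, nBX⟩ :=
    tau_pair FO ptB ptX (by norm_num [ptB]) (by norm_num [ptX]) (by decide +kernel) (by norm_num [ptB, ptX])
  have h0 : tau 0 = Fi24.xg 0 := Fi24.Out.tau_zero
  have hperp : ∀ {d : M}, d ∈ conjugatesOf (Fi24.xg 0) → Commute (tau 0) d → d ≠ tau 0 → d ∈ perp0 :=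
    fun hd h1 h2 => ⟨hd, h0 ▸ h2, h0 ▸ h1⟩
  have hev : evenCent 0 = even0 := by
    show Subgroup.centralizer ({tau 0} : Set M) ⊓ commutator M = _
    rw [h0]
  -- send the first product to the base involution
  have hB0 : tau 0 * tau ptB ∈ even0 := by
    rw [h0]; exact pair_mem_even0 (hperp (tau_mem_cls _) c0B n0B.symm)
  have hBdd : e ⟨_, hB0⟩ ∈ T.ddY := hecls _ ⟨_, hperp (tau_mem_cls _) c0B n0B.symm, by
    show tau 0 * tau ptB = Fi24.xg 0 * tau ptB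
    rw [h0]⟩
  rw [T.ddY_eq S] at hBdd
  obtain ⟨y, hy⟩ := isConj_iff.1 hBdd
  let ψ : ↥(evenCent 0) →* G := T.Yg.subtype.comp
    ((MulAut.conj y⁻¹).toMonoidHom.comp (e.toMonoidHom.comp (MulEquiv.subgroupCongr hev).toMonoidHom))
  have hψinj : Function.Injective ψ := Subtype.val_injective.comp ((MulAut.conj y⁻¹).injective.comp
    (e.injective.comp (MulEquiv.subgroupCongr hev).injective))
  have hψ : ∀ x, ψ x = ((y⁻¹ * e (MulEquiv.subgroupCongr hev x) * y⁻¹⁻¹ : ↥T.Yg) : G) := fun _ => rfl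
  have hrange : ψ.range = T.Yg := by
    refine le_antisymm (fun g ⟨x, hx⟩ => hx ▸ (hψ x ▸ SetLike.coe_mem _)) fun g hg => ?_
    obtain ⟨x, hx⟩ := e.surjective (y * ⟨g, hg⟩ * y⁻¹)
    refine ⟨(MulEquiv.subgroupCongr hev).symm x, ?_⟩
    rw [hψ, MulEquiv.apply_symm_apply, hx, inv_inv]
    simp [mul_assoc]
  have hψt : ∀ h : tau 0 * tau ptB ∈ evenCent 0, ψ ⟨_, h⟩ = T.t := by
    intro h
    rw [hψ, show MulEquiv.subgroupCongr hev ⟨_, h⟩ = ⟨_, hB0⟩ from rfl, ← hy]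
    simp [mul_assoc]
  have hψdd : ∀ d ∈ conjugatesOf (Fi24.xg 0), Commute (tau 0) d → d ≠ tau 0 →
      ∀ h : tau 0 * d ∈ evenCent 0, ψ ⟨_, h⟩ ∈ T.dd := by
    intro d hd h1 h2 h
    rw [hψ]
    refine hconjY y⁻¹ _ (hecls _ ⟨d, hperp hd h1 h2, ?_⟩)
    show tau 0 * d = Fi24.xg 0 * d
    rw [h0]
  -- exchange of the first two points
  obtain ⟨m, hm1, hm2⟩ : ∃ m : M, m * tau 0 * m⁻¹ = tau ptB ∧ m * tau ptB * m⁻¹ = tau 0 := by
    obtain ⟨g, hg⟩ := isConj_iff.1 (show IsConj (Fi24.xg 0) (tau ptB) from tau_mem_cls _)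
    rw [← h0] at hg
    have h1 : g⁻¹ * tau ptB * g = tau 0 := by rw [← hg]; group
    have h2 : Commute (tau 0) (g⁻¹ * tau 0 * g) := by
      have := (conj_commute_iff g⁻¹ (tau ptB) (tau 0)).2 c0B.symm
      rwa [inv_inv, h1] at this
    have h3 : g⁻¹ * tau 0 * g ≠ tau 0 := fun c => n0B (mul_left_cancel (mul_right_cancel (c.trans h1.symm)))
    obtain ⟨h, hh1, hh2⟩ := htrans _ (hperp (IsConj.trans (tau_mem_cls 0) (isConj_iff.2 ⟨g⁻¹, by rw [inv_inv]⟩)) h2 h3)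
      (tau ptB) (hperp (tau_mem_cls _) c0B n0B.symm)
    rw [← h0] at hh1
    refine ⟨h * g⁻¹, ?_, ?_⟩
    · rw [← hh2]; group
    · calc h * g⁻¹ * tau ptB * (h * g⁻¹)⁻¹ = h * (g⁻¹ * tau ptB * g) * h⁻¹ := by group
        _ = _ := by rw [h1, hh1.eq, mul_inv_cancel_right]
  obtain ⟨ψB, ψX, aB, aX, aBX⟩ := exists_copies S (T := T) (N := commutator M) (conjugatesOf (Fi24.xg 0))
    (fun g d hd => IsConj.trans hd (isConj_iff.2 ⟨g, rfl⟩)) (fun d hd => by rw [h0]; exact perp0_mul_mem hd)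
    (a := tau 0) (b := tau ptB) (c := tau ptX) (tau_mem_cls _) (tau_mem_cls _) (tau_mem_cls _)
    (Fi24.Out.tau_sq 0) c0B c0X cBX n0B n0X nBX ψ hψinj hrange hψt hψdd hm1 hm2
  -- the meets with the centralisers of the products
  have hduad : ∀ r, Commute (tau 0) (tau r) → tau 0 ≠ tau r → ∀ hd : tau 0 * tau r ∈ evenCent 0,
      ∃ v : T.St, v.el = ψ ⟨_, hd⟩ ∧ (∀ (x : M) (hx : x ∈ evenCent₂ 0 r), ψ ⟨x, hx.1⟩ ∈ T.Kv v) ∧
        ∀ g ∈ T.Kv v, ∃ (x : M) (hx : x ∈ evenCent₂ 0 r), ψ ⟨x, hx.1⟩ = g := by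
    intro r h1 h2 hd
    obtain ⟨v, hv, hvel⟩ := hψdd _ (tau_mem_cls r) h1 h2.symm hd
    have hstab : T.stabOf T.o = T.Yg := T.stabC_eq S
    refine ⟨v, hvel, fun x hx => ?_, fun g hg => ?_⟩
    · rw [T.Kv_iff S hv, hstab]
      refine ⟨hrange ▸ ⟨_, rfl⟩, ?_⟩
      rw [show v.el = ψ ⟨_, hd⟩ from hvel]
      exact (show Commute (⟨x, hx.1⟩ : ↥(evenCent 0)) ⟨_, hd⟩ from Subtype.ext
        (((mem_ev (N := commutator M)).1 hx.1).1.mul_right ((mem_ev (N := commutator M)).1 hx.2).1).eq).map ψ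
    · rw [T.Kv_iff S hv, hstab] at hg
      obtain ⟨x, hx⟩ := hrange.ge hg.1
      have hc : Commute (x : M) (tau 0 * tau r) :=
        commute_of_map (N := commutator M) ψ hψinj (show Commute (ψ x) (ψ ⟨_, hd⟩) by
          rw [hx, ← show v.el = ψ ⟨_, hd⟩ from hvel]; exact hg.2)
      have hxr : Commute (x : M) (tau r) := by
        have h3 : tau r = (tau 0)⁻¹ * (tau 0 * tau r) := by rw [inv_mul_cancel_left]
        rw [h3]
        exact ((mem_ev (N := commutator M)).1 x.2).1.inv_right.mul_right hc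
      exact ⟨x, ⟨x.2, (mem_ev (N := commutator M)).2 ⟨hxr, x.2.2⟩⟩, hx⟩
  have hdB : tau 0 * tau ptB ∈ evenCent 0 := hev ▸ hB0
  refine ⟨⟨ψ, ψB, ψX, hψinj, aB, aX, aBX, ?_, ?_, ?_, ?_, ?_⟩⟩
  · intro hd g hg hc
    obtain ⟨v, hvel, -, hsur⟩ := hduad ptA c0A n0A hd
    obtain ⟨w, rfl⟩ := T.exists_smul v
    have hK : ∀ k ∈ T.K, Commute g (w * k * w⁻¹) := fun k hk => by
      obtain ⟨x, hx, e⟩ := hsur (w * k * w⁻¹) (by rw [T.mem_Kv_smul, T.Kv_o S]; simpa [mul_assoc] using hk)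
      exact e ▸ hc x hx
    rw [← hvel] at hg ⊢
    rw [Top.St.el_smul, T.o_el] at hg ⊢
    have key : ∀ k : G, Commute g (w * k * w⁻¹) → Commute (w⁻¹ * g * w) k := fun k hk => by
      have := (conj_commute_iff w⁻¹ g (w * k * w⁻¹)).2 hk
      rwa [inv_inv, show w⁻¹ * (w * k * w⁻¹) * w = k by group] at this
    rcases T.cent_K S (key _ hg) (fun k hk => key k (hK k hk)) with h | h
    · exact Or.inl (by rw [show g = w * (w⁻¹ * g * w) * w⁻¹ by group, h]; group)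
    · exact Or.inr (by rw [show g = w * (w⁻¹ * g * w) * w⁻¹ by group, h])
  · intro r hr hd g hg x hx
    have hcr : Commute (tau 0) (tau r) ∧ tau 0 ≠ tau r := by
      rcases hr with rfl | rfl
      · exact ⟨c0B, n0B⟩
      · exact ⟨c0A, n0A⟩
    obtain ⟨v, hvel, hmem, hsur⟩ := hduad r hcr.1 hcr.2 hd
    have hel : (g • v).el = v.el := by rw [Top.St.el_smul, hvel, hg.eq, mul_inv_cancel_right]
    have h1 : g * ψ ⟨x, hx.1⟩ * g⁻¹ ∈ T.Kv v := by
      rw [← T.Kv_congr S hel, T.mem_Kv_smul]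
      simpa [mul_assoc] using hmem x hx
    obtain ⟨z', hz', e⟩ := hsur _ h1
    exact ⟨z', hz', e.symm⟩
  · intro hd
    obtain ⟨v, hvel, hmem, hsur⟩ := hduad ptB c0B n0B hd
    have h1 : Nat.card ↥(evenCent₂ 0 ptB) = Nat.card ↥T.K := by
      rw [← T.card_Kv S v]
      refine Nat.card_congr (Equiv.ofBijective (fun x => ⟨ψ ⟨x.1, x.2.1⟩, hmem x.1 x.2⟩) ⟨fun a b h => ?_, fun g => ?_⟩)
      · exact Subtype.ext (congrArg (fun x : ↥(evenCent 0) => (x : M))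
          (hψinj (show ψ ⟨a.1, a.2.1⟩ = ψ ⟨b.1, b.2.1⟩ from congrArg (fun g : ↥(T.Kv v) => (g : G)) h)))
      · obtain ⟨x, hx, e⟩ := hsur g.1 g.2
        exact ⟨⟨x, hx⟩, Subtype.ext e⟩
    rw [hψt hd, h1]
    obtain ⟨w, hw, hws⟩ := T.swap
    have hwK : w ∉ T.K := fun h => by
      obtain ⟨y', hy'⟩ := T.exists_mem (exists_nonempty S)
      change cs w T.side = (fun x => T.t * x) '' T.side at hws
      rw [T.cs_K h] at hws
      obtain ⟨x, hx, h3⟩ := hws ▸ hy'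
      exact T.not_side_of_shift hx (show (fun x => T.t * x) x ∈ T.side by rw [h3]; exact hy')
    set C := Subgroup.centralizer ({T.t} : Set G)
    have hKC : T.K ≤ C := fun k hk => Subgroup.mem_centralizer_singleton_iff.2 (T.le k hk).eq
    have hcomm : ∀ {g}, g ∈ C → Commute g T.t := fun hg => Subgroup.mem_centralizer_singleton_iff.1 hg
    have hidx : (T.K.subgroupOf C).index = 2 := by
      refine Subgroup.index_eq_two_iff.2 ⟨⟨w, Subgroup.mem_centralizer_singleton_iff.2 hw.eq⟩, fun b => ?_⟩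
      simp only [Subgroup.mem_subgroupOf, Subgroup.coe_mul]
      by_cases hb : (b : G) ∈ T.K
      · exact Or.inr ⟨hb, fun h => hwK (by simpa using mul_mem (inv_mem hb) h)⟩
      · exact Or.inl ⟨T.two _ _ (hcomm b.2) hw hb hwK, hb⟩
    rw [← Subgroup.card_mul_index (T.K.subgroupOf C), hidx,
      Nat.card_congr (Subgroup.subgroupOfEquivOfLe hKC).toEquiv, mul_comm]
  · intro hd
    rw [hψt hd, htt]
    exact (Fr.P.mem p q hpq).2.2
  · intro hd
    refine ⟨z, IsConj.refl z, ?_⟩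
    rw [hψt hd, htt]
    obtain ⟨h, -⟩ := htQ
    exact (show Commute (Fr.P.tt p q) z from Subgroup.mem_centralizer_singleton_iff.1 h).symm

end Cfsg.Agent.Lib.Fi24Recog30
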