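import Cfsg.Agent.Lib.Fi24Recog30.States
import Cfsg.Agent.Lib.Fi23Recog30.Main

/-!
The stabiliser of a component is generated by its involutions and is a copy of Fi23.
-/

set_option autoImplicit false
set_option linter.style.haveILetI false
set_option linter.unusedSectionVars false

namespace Cfsg.Agent.Lib.Fi24Recog30

open Cfsg.Agent.Lib.FischerMTypes.Basic Cfsg.Agent.Lib.FischerMTypes.Primitive
open Cfsg.Agent.Lib.FischerMTypes.TraceCounts (Sys)
open scoped commutatorElement

universe u v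

variable {G : Type u} [Group G] [Finite G] {Y : Type v} [Group Y] [Finite Y] {E : Set Y}
variable {F : Type} [Field F] [Fintype F] (T : Top G Y E)

/-- the component of the base state -/
def Top.comp : Set T.St := {v | Relation.ReflTransGen T.R T.o v}

/-- the involutions of the component -/
def Top.dd : Set G := (fun v : T.St => v.el) '' T.comp

/-- the group of the component -/
def Top.Yg : Subgroup G := Subgroup.closure T.dd

variable {T}

theorem Top.conn_symm {v w : T.St} (h : Relation.ReflTransGen T.R v w) : Relation.ReflTransGen T.R w v := by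
  induction h with
  | refl => exact .refl
  | tail _ hbc ih => exact Relation.ReflTransGen.head (T.refl_R.symm hbc) ih

theorem Top.conn_smul (g : G) {v w : T.St} (h : Relation.ReflTransGen T.R v w) :
    Relation.ReflTransGen T.R (g • v) (g • w) := by
  induction h with
  | refl => exact .refl
  | tail _ hbc ih => exact ih.tail ((T.R_smul g).2 hbc)

/-- the stabiliser of the component -/
def Top.stabC (T : Top G Y E) : Subgroup G where
  carrier := {g | g • T.o ∈ T.comp}
  one_mem' := by show (1 : G) • T.o ∈ T.comp; rw [one_smul]; exact .refl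
  mul_mem' := fun {a b} ha hb => by
    show (a * b) • T.o ∈ T.comp
    rw [mul_smul]
    exact Relation.ReflTransGen.trans ha (T.conn_smul a hb)
  inv_mem' := fun {a} ha => by
    show a⁻¹ • T.o ∈ T.comp
    have := T.conn_smul a⁻¹ ha
    rw [inv_smul_smul] at this
    exact T.conn_symm this

theorem Top.mem_stabC {g : G} : g ∈ T.stabC ↔ g • T.o ∈ T.comp := Iff.rfl

theorem Top.el_fix (v : T.St) : v.el • v = v := by
  obtain ⟨g, rfl⟩ := T.exists_smul v
  rw [Top.St.el_smul, T.o_el, mul_smul, mul_smul, inv_smul_smul, T.fix_K T.tK]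

theorem Top.dd_le : T.Yg ≤ T.stabC := by
  refine (Subgroup.closure_le _).2 ?_
  rintro _ ⟨v, hv, rfl⟩
  show v.el • T.o ∈ T.comp
  have h := T.conn_smul v.el hv
  rw [T.el_fix v] at h
  exact Relation.ReflTransGen.trans hv (T.conn_symm h)

theorem Top.el_mem {v : T.St} (hv : v ∈ T.comp) : v.el ∈ T.Yg := Subgroup.subset_closure ⟨v, hv, rfl⟩

theorem Top.smul_comp {g : G} (hg : g ∈ T.stabC) {v : T.St} (hv : v ∈ T.comp) : g • v ∈ T.comp :=
  Relation.ReflTransGen.trans (T.mem_stabC.1 hg) (T.conn_smul g hv)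

variable (S : Sys E F)

include S in
theorem Top.side_subset {y : G} (hy : y ∈ T.side) : ∃ w : T.St, T.R T.o w ∧ w.el = y := by
  obtain ⟨e, he, rfl⟩ := hy
  obtain ⟨w, hw, hadj, -⟩ := T.exists_nbr S he
  exact ⟨w, Or.inr hadj, hw⟩

include S in
/-- the side generates the centraliser part -/
theorem Top.K_eq_closure : T.K = Subgroup.closure T.side := by
  set W := Subgroup.closure (T.L '' E) with hW
  have hmap : W.map T.π = ⊤ := by
    rw [eq_top_iff, ← S.hD.2.2, Subgroup.closure_le]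
    intro e he
    exact ⟨T.L e, Subgroup.subset_closure ⟨e, he, rfl⟩, T.sect.proj e he⟩
  have hsplit : ∀ k : ↥T.K, ∃ w ∈ W, ∃ c ∈ Subgroup.center ↥T.K, k = w * c := fun k => by
    obtain ⟨w, hw, e⟩ := hmap.ge (Subgroup.mem_top (T.π k))
    refine ⟨w, hw, w⁻¹ * k, ?_, (mul_inv_cancel_left _ _).symm⟩
    rcases T.cover.ker (w⁻¹ * k) (by rw [map_mul, map_inv, e, inv_mul_cancel]) with h | h <;> rw [h]
    · exact one_mem _
    · exact Subgroup.mem_center_iff.2 fun y => (T.cover.central y).symm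
  have htop : W = ⊤ := by
    obtain ⟨hperf, -⟩ := T.qs
    haveI := hperf
    rw [eq_top_iff, ← Group.IsPerfect.commutator_eq_top (G := ↥T.K), commutator_def, Subgroup.commutator_le]
    intro a _ b _
    obtain ⟨u, hu, c, hc, rfl⟩ := hsplit a
    obtain ⟨v, hv, d, hd, rfl⟩ := hsplit b
    have e : ⁅u * c, v * d⁆ = ⁅u, v⁆ := by
      have hc' := fun x => Subgroup.mem_center_iff.1 hc x
      have hd' := fun x => Subgroup.mem_center_iff.1 hd x
      simp only [commutatorElement_def, mul_inv_rev]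
      calc u * c * (v * d) * (c⁻¹ * u⁻¹) * (d⁻¹ * v⁻¹) = u * ((v * d) * c) * (c⁻¹ * u⁻¹) * (d⁻¹ * v⁻¹) := by
            rw [hc' (v * d)]; group
        _ = u * v * (d * u⁻¹) * d⁻¹ * v⁻¹ := by group
        _ = u * v * (u⁻¹ * d) * d⁻¹ * v⁻¹ := by rw [hd' u⁻¹]
        _ = _ := by group
    rw [e, commutatorElement_def]
    exact mul_mem (mul_mem (mul_mem hu hv) (inv_mem hu)) (inv_mem hv)
  have h1 : W.map T.K.subtype = Subgroup.closure T.side := by
    rw [hW, MonoidHom.map_closure]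
    congr 1
    rw [Set.image_image]
    rfl
  rw [← h1, htop, ← MonoidHom.range_eq_map, Subgroup.range_subtype]

include S in
theorem Top.K_le : T.K ≤ T.Yg := by
  rw [T.K_eq_closure S, Subgroup.closure_le]
  intro y hy
  obtain ⟨w, hw, rfl⟩ := T.side_subset S hy
  exact T.el_mem (Relation.ReflTransGen.single hw)

include S in
theorem Top.conj_K_le {g : G} (hg : g ∈ T.stabC) {k : G} (hk : k ∈ T.K) : g * k * g⁻¹ ∈ T.Yg := by
  rw [T.K_eq_closure S] at hk
  have h : (Subgroup.closure T.side).map (MulAut.conj g).toMonoidHom ≤ T.Yg := by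
    rw [MonoidHom.map_closure, Subgroup.closure_le]
    rintro _ ⟨y, hy, rfl⟩
    obtain ⟨w, hw, rfl⟩ := T.side_subset S hy
    exact T.el_mem (v := g • w) (T.smul_comp hg (Relation.ReflTransGen.single hw))
  exact h ⟨k, hk, rfl⟩

include S in
/-- the group of the component is transitive on it -/
theorem Top.transitive {v : T.St} (hv : v ∈ T.comp) : ∃ y ∈ T.Yg, y • T.o = v := by
  induction hv with
  | refl => exact ⟨1, one_mem _, one_smul _ _⟩
  | @tail b c _ hbc ih =>
    obtain ⟨y, hy, rfl⟩ := ih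
    rcases hbc with rfl | hadj
    · exact ⟨y, hy, rfl⟩
    obtain ⟨l, ch, hl⟩ := T.exists_chart_o S
    have hne : y⁻¹ • c ≠ T.o := fun h => T.el_not_sd (y • T.o) (by
      have := hadj.1
      rwa [show c = y • T.o by rw [← h, smul_inv_smul]] at this)
    obtain ⟨e, he, hle⟩ := ch.surj (y⁻¹ • c) ⟨hne, (T.R_smul y).1 (by rw [smul_inv_smul]; exact Or.inr hadj)⟩
    suffices h : ∃ x ∈ T.Yg, x • T.o = l e by
      obtain ⟨x, hx, hx'⟩ := h
      exact ⟨y * x, mul_mem hy hx, by rw [mul_smul, hx', hle, smul_inv_smul]⟩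
    obtain ⟨f, hf, hef, hc⟩ := exists_mate S he
    -- `o` and `l e` are neighbours of `l f`
    obtain ⟨g, hg⟩ := T.exists_smul (l f)
    have hnb : ∀ x : T.St, x ≠ l f → T.R (l f) x → ∃ a ∈ E, g • l a = x := fun x hx1 hx2 => by
      obtain ⟨a, ha, h⟩ := ch.surj (g⁻¹ • x) ⟨fun h => hx1 (by rw [← hg, ← h, smul_inv_smul]),
        (T.R_smul g).1 (by rw [smul_inv_smul, hg]; exact hx2)⟩
      exact ⟨a, ha, by rw [h, smul_inv_smul]⟩
    obtain ⟨a, ha, hao⟩ := hnb T.o (ch.mem f hf).1.symm (T.refl_R.symm (ch.mem f hf).2)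
    obtain ⟨b, hb, hbe⟩ := hnb (l e) (fun h => hef (ch.inj e he f hf h)) ((ch.comm f hf e he).2 hc.symm)
    obtain ⟨q, hq⟩ := S.hprim.1 a ha b hb
    obtain ⟨k, rfl⟩ := T.cover.surj q
    have hk : (k : G) • l a = l b := by
      have h1 : (k : G) • l a ∈ nb T.R T.o := by
        refine ⟨fun h => (ch.mem a ha).1 (smul_left_cancel (k : G) (h.trans (T.fix_K k.2).symm)), ?_⟩
        have := (T.R_smul (k : G)).2 (ch.mem a ha).2
        rwa [T.fix_K k.2] at this
      obtain ⟨b', hb', e'⟩ := ch.surj _ h1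
      suffices b' = b by rw [← e', this]
      refine T.L_inj hb' hb ?_
      rw [← hl b' hb', e', Top.St.el_smul, hl a ha, ← hq, ← T.sect.conj a ha k]
      rfl
    have hgC : g ∈ T.stabC := T.mem_stabC.2 (hg ▸ Relation.ReflTransGen.single (ch.mem f hf).2)
    refine ⟨g * k * g⁻¹, T.conj_K_le S hgC k.2, ?_⟩
    conv_lhs => rw [← hao]
    rw [mul_smul, mul_smul, inv_smul_smul, hk, hbe]

include S in
theorem Top.stabC_eq : T.stabC = T.Yg := by
  refine le_antisymm (fun g hg => ?_) T.dd_le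
  obtain ⟨y, hy, e⟩ := T.transitive S hg
  have h : (y⁻¹ * g) • T.o = T.o := by rw [mul_smul, ← e, inv_smul_smul]
  have := mul_mem hy (T.K_le S (T.mem_K_of_fix (exists_nonempty S) h))
  rwa [mul_inv_cancel_left] at this

include S in
/-- in the group of the component the centraliser of the involution is the centraliser part -/
theorem Top.cent_eq {y : G} (hy : y ∈ T.Yg) (hc : Commute y T.t) : y ∈ T.K := by
  refine T.mem_K_of_fix (exists_nonempty S) (T.el_inj S ?_ ?_)
  · exact T.conn_symm (T.mem_stabC.1 (T.dd_le hy))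
  · rw [Top.St.el_smul, T.o_el, hc.eq, mul_inv_cancel_right]

theorem Top.t_mem : T.t ∈ T.Yg := T.el_mem (v := T.o) .refl

include S in
/-- the facts behind Fi23 -/
theorem Top.fi23_setting :
    orderOf (⟨T.t, T.t_mem⟩ : ↥T.Yg) = 2 ∧
    Cfsg.IsQuasisimple (Subgroup.centralizer ({(⟨T.t, T.t_mem⟩ : ↥T.Yg)} : Set ↥T.Yg)) ∧
    (∀ _h : ((Subgroup.zpowers (⟨T.t, T.t_mem⟩ : ↥T.Yg)).subgroupOf
        (Subgroup.centralizer ({(⟨T.t, T.t_mem⟩ : ↥T.Yg)} : Set ↥T.Yg))).Normal,
      Nonempty ((Subgroup.centralizer ({(⟨T.t, T.t_mem⟩ : ↥T.Yg)} : Set ↥T.Yg)) ⧸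
        (Subgroup.zpowers (⟨T.t, T.t_mem⟩ : ↥T.Yg)).subgroupOf
          (Subgroup.centralizer ({(⟨T.t, T.t_mem⟩ : ↥T.Yg)} : Set ↥T.Yg)) ≃* Y)) ∧
    ∃ g : ↥T.Yg, g * ⟨T.t, T.t_mem⟩ * g⁻¹ ∈ Subgroup.centralizer ({(⟨T.t, T.t_mem⟩ : ↥T.Yg)} : Set ↥T.Yg) ∧
      g * ⟨T.t, T.t_mem⟩ * g⁻¹ ≠ ⟨T.t, T.t_mem⟩ := by
  set t₀ : ↥T.Yg := ⟨T.t, T.t_mem⟩ with ht₀
  set C := Subgroup.centralizer ({t₀} : Set ↥T.Yg) with hC
  let ε : ↥T.K ≃* ↥C :=
    { toFun := fun k => ⟨⟨(k : G), T.K_le S k.2⟩,
        Subgroup.mem_centralizer_singleton_iff.2 (Subtype.ext (T.le _ k.2).eq)⟩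
      invFun := fun c => ⟨((c : ↥T.Yg) : G), T.cent_eq S (c : ↥T.Yg).2
        (congrArg Subtype.val (Subgroup.mem_centralizer_singleton_iff.1 c.2))⟩
      left_inv := fun _ => rfl
      right_inv := fun _ => rfl
      map_mul' := fun _ _ => rfl }
  refine ⟨?_, Components.Quasisimple.of_mulEquiv T.qs ε, fun h => ⟨?_⟩, ?_⟩
  · refine orderOf_eq_prime (by rw [pow_two]; exact Subtype.ext T.sq) fun h => T.ne ?_
    exact congrArg Subtype.val h
  · let f : ↥C →* Y := T.π.comp ε.symm.toMonoidHom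
    have hf : Function.Surjective f := T.cover.surj.comp ε.symm.surjective
    have hker : f.ker = (Subgroup.zpowers t₀).subgroupOf C := by
      ext c
      rw [MonoidHom.mem_ker, Subgroup.mem_subgroupOf]
      constructor
      · intro hc
        rcases T.cover.ker (ε.symm c) hc with e | e
        · have : c = 1 := by rw [← ε.apply_symm_apply c, e, map_one]
          rw [this]; exact one_mem _
        · refine Subgroup.mem_zpowers_iff.2 ⟨1, ?_⟩
          rw [zpow_one, ← ε.apply_symm_apply c, e]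
          rfl
      · intro hc
        obtain ⟨n, hn⟩ := Subgroup.mem_zpowers_iff.1 hc
        show T.π (ε.symm c) = 1
        have e : ε.symm c = ⟨T.t, T.tK⟩ ^ n := Subtype.ext (by
          show ((c : ↥T.Yg) : G) = _
          rw [← hn]; rfl)
        rw [e, map_zpow, T.cover.one, one_zpow]
    exact (QuotientGroup.quotientMulEquivOfEq hker.symm).trans (QuotientGroup.quotientKerEquivOfSurjective f hf)
  · obtain ⟨e, he⟩ := exists_nonempty S
    obtain ⟨w, hw, hadj, -⟩ := T.exists_nbr S he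
    obtain ⟨y, hy, hyw⟩ := T.transitive S (v := w) (Relation.ReflTransGen.single (Or.inr hadj))
    have h1 : y * T.t * y⁻¹ = (T.L e : G) := by rw [← hw, ← hyw]; rfl
    refine ⟨⟨y, hy⟩, Subgroup.mem_centralizer_singleton_iff.2 (Subtype.ext ?_), fun h => ?_⟩
    · show y * T.t * y⁻¹ * T.t = T.t * (y * T.t * y⁻¹)
      rw [h1]
      exact (T.comm_t (T.mem_side he)).eq
    · have h2 : y * T.t * y⁻¹ = T.t := congrArg Subtype.val h
      rw [h1] at h2
      exact T.t_not_side (h2 ▸ T.mem_side he)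

end Cfsg.Agent.Lib.Fi24Recog30
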