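import Cfsg.Agent.Lib.FischerLarge75.Perms

/-!
Permutations of order seven or eleven of the twenty-four points, and the sets they can fix.
-/

set_option autoImplicit false
set_option linter.style.haveILetI false
set_option linter.unusedSectionVars false

namespace Cfsg.Agent.Lib.Fi24Recog30

open Cfsg Cfsg.Agent.Lib.FischerLarge75

/-- a set invariant under a permutation of prime order is congruent to its fixed points -/
theorem card_modEq_fixed {α : Type*} [DecidableEq α] {p : ℕ} (hp : p.Prime) (σ : α → α) (s : Finset α)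
    (hs : ∀ x ∈ s, σ x ∈ s) (hσ : ∀ x ∈ s, σ^[p] x = x) :
    s.card ≡ (s.filter fun x => σ x = x).card [MOD p] := by
  haveI := Fact.mk hp
  let f : Function.End {x // x ∈ s} := fun x => ⟨σ x.1, hs x.1 x.2⟩
  have hpow : ∀ n, ∀ x : {x // x ∈ s}, (((f ^ n) x : {x // x ∈ s}) : α) = σ^[n] x.1 := by
    intro n
    induction n with
    | zero => intro x; rfl
    | succ n ih =>
      intro x
      rw [pow_succ', Function.iterate_succ_apply']
      show σ ((f ^ n) x).1 = _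
      rw [ih]
  have hone : f ^ p ^ 1 = 1 := by
    funext x
    exact Subtype.ext (by rw [pow_one, hpow]; exact hσ x.1 x.2)
  have h := Equiv.Perm.card_fixedPoints_modEq hone
  rw [Fintype.card_coe] at h
  have e : Fintype.card (Function.fixedPoints f) = (s.filter fun x => σ x = x).card := by
    rw [← Fintype.card_coe]
    refine Fintype.card_congr ⟨fun x => ⟨x.1.1, Finset.mem_filter.2 ⟨x.1.2, congrArg Subtype.val x.2⟩⟩,
      fun x => ⟨⟨x.1, (Finset.mem_filter.1 x.2).1⟩, Subtype.ext (Finset.mem_filter.1 x.2).2⟩,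
      fun _ => rfl, fun _ => rfl⟩
  rwa [e] at h

/-- elements of order eleven and seven fixing two given points -/
theorem exists_eleven_seven {p q : GolayPt} (hpq : p ≠ q) :
    (∃ σ ∈ M24, σ ≠ 1 ∧ σ ^ 11 = 1 ∧ σ p = p ∧ σ q = q ∧ ∀ x, σ x = x → x = p ∨ x = q) ∧
    ∃ σ ∈ M24, σ ≠ 1 ∧ σ ^ 7 = 1 ∧ σ p = p ∧ σ q = q ∧ ∃ r, ∀ x, σ x = x → x = p ∨ x = q ∨ x = r := by
  haveI := Golay.multiply_pretransitive
  haveI : MulAction.IsMultiplyPretransitive Cfsg.M24 Cfsg.GolayPt 2 :=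
    MulAction.isMultiplyPretransitive_of_le (n := 5) (by norm_num) (by simp [Cfsg.GolayPt])
  have htwo : ∀ {a b : GolayPt}, a ≠ b → ∃ τ ∈ M24, τ a = p ∧ τ b = q := by
    intro a b hab
    obtain ⟨⟨τ, hτ⟩, e⟩ := MulAction.exists_smul_eq Cfsg.M24
      (⟨![a, b], by intro i j h; fin_cases i <;> fin_cases j <;> simp_all [eq_comm]⟩ : Fin 2 ↪ GolayPt)
      (⟨![p, q], by intro i j h; fin_cases i <;> fin_cases j <;> simp_all [eq_comm]⟩ : Fin 2 ↪ GolayPt)
    exact ⟨τ, hτ, congrArg (fun f : Fin 2 ↪ GolayPt => f 0) e, congrArg (fun f : Fin 2 ↪ GolayPt => f 1) e⟩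
  have hmove : ∀ {a b : GolayPt} {π : Equiv.Perm GolayPt} {n : ℕ} {τ : Equiv.Perm GolayPt}, π ∈ M24 → τ ∈ M24 →
      π ≠ 1 → π ^ n = 1 → π a = a → π b = b → τ a = p → τ b = q →
      (τ * π * τ⁻¹ ∈ M24) ∧ τ * π * τ⁻¹ ≠ 1 ∧ (τ * π * τ⁻¹) ^ n = 1 ∧ (τ * π * τ⁻¹) p = p ∧
        (τ * π * τ⁻¹) q = q ∧ ∀ x, (τ * π * τ⁻¹) x = x → π (τ⁻¹ x) = τ⁻¹ x := by
    intro a b π n τ hπ hτ h1 hn ha hb e1 e2
    refine ⟨mul_mem (mul_mem hτ hπ) (inv_mem hτ), fun h => h1 (conj_eq_one_iff.1 h), by rw [conj_pow, hn]; group,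
      ?_, ?_, fun x hx => τ.injective ?_⟩
    · rw [← e1]; simp [ha]
    · rw [← e2]; simp [hb]
    · simpa using hx
  refine ⟨?_, ?_⟩
  · obtain ⟨τ, hτ, e1, e2⟩ := htwo (a := none) (b := some 0) (by simp)
    obtain ⟨m1, m2, m3, m4, m5, m6⟩ := hmove pH_mem hτ pH_ne pH_order pH_none pH_zero e1 e2
    refine ⟨_, m1, m2, m3, m4, m5, fun x hx => ?_⟩
    by_cases hx' : τ⁻¹ x = none
    · exact Or.inl (by rw [← e1, ← hx']; simp)
    · rcases pH_pair none (τ⁻¹ x) (Ne.symm hx') (Or.inl ⟨pH_none, m6 x hx⟩) with ⟨-, h⟩ | ⟨-, h⟩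
      · exact Or.inr (by rw [← e2, ← h]; simp)
      · exact absurd h hx'
  · obtain ⟨τ, hτ, e1, e2⟩ := htwo (a := none) (b := some 3) (by simp)
    obtain ⟨m1, m2, m3, m4, m5, m6⟩ := hmove pR_mem hτ pR_ne pR_order pR_none pR_three e1 e2
    refine ⟨_, m1, m2, m3, m4, m5, τ (some 6), fun x hx => ?_⟩
    by_cases hx' : τ⁻¹ x = none
    · exact Or.inl (by rw [← e1, ← hx']; simp)
    · rcases (pR_pair none (τ⁻¹ x) (Ne.symm hx') (Or.inl ⟨pR_none, m6 x hx⟩)).2 with h | h | h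
      · exact absurd h hx'
      · exact Or.inr (Or.inl (by rw [← e2, ← h]; simp))
      · exact Or.inr (Or.inr (by rw [← h]; simp))

end Cfsg.Agent.Lib.Fi24Recog30
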