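import Cfsg.Agent.Lib.FischerLarge75.Autom
import Cfsg.Agent.Lib.FischerLarge75.Assemble

/-!
The Thompson subgroup lies in the quasisimple part of the centraliser of a pair.
-/

set_option autoImplicit false
set_option linter.style.haveILetI false
set_option linter.unusedSectionVars false

namespace Cfsg.Agent.Lib.Fi24Recog30

open Cfsg Cfsg.Agent.Lib.LargeFischer13 Cfsg.Agent.Lib.FischerLarge75


universe u

variable {G : Type u} [Group G] [Finite G] {z : G} {Q : Subgroup (Cz z)} [Q.Normal]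

theorem duads_dense (F : Frame z Q) {W : Subgroup G} (hW : ∀ p q, p ≠ q → F.P.tt p q ∈ W) : F.A ≤ W := by
  classical
  haveI : Fact (Nat.Prime 2) := ⟨Nat.prime_two⟩
  haveI : Fact (Nat.Prime 23) := ⟨by norm_num⟩
  set V := Subgroup.closure {a | ∃ p q, p ≠ q ∧ F.P.tt p q = a} with hV
  have hVW : V ≤ W := (Subgroup.closure_le _).2 (by rintro _ ⟨p, q, h, rfl⟩; exact hW p q h)
  have hVA : V ≤ F.A := (Subgroup.closure_le _).2 (by rintro _ ⟨p, q, h, rfl⟩; exact F.tt_mem h)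
  set m := F.lift pS_mem with hm
  have hinv : ∀ a ∈ V, (m : G) * a * (m : G)⁻¹ ∈ V := by
    intro a ha
    have : V.map (MulAut.conj (m : G)).toMonoidHom ≤ V := by
      rw [hV, MonoidHom.map_closure, Subgroup.closure_le]
      rintro _ ⟨_, ⟨p, q, h, rfl⟩, rfl⟩
      exact Subgroup.subset_closure ⟨_, _, (F.P.φ m).injective.ne h, (F.P.equiv m p q).symm⟩
    exact this ⟨a, ha, rfl⟩
  letI : Fintype V := Fintype.ofFinite _
  let f : Function.End V := fun a => ⟨_, hinv a.1 a.2⟩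
  have hpow : ∀ n, ∀ a : V, ((f ^ n) a : V).1 = ((m ^ n : Subgroup.normalizer (F.A : Set G)) : G) * a.1 *
      ((m ^ n : Subgroup.normalizer (F.A : Set G)) : G)⁻¹ := by
    intro n
    induction n with
    | zero => intro a; simp [Function.End.one_def]
    | succ n ih =>
      intro a
      rw [pow_succ']
      show (m : G) * ((f ^ n) a : V).1 * (m : G)⁻¹ = _
      rw [ih, pow_succ']
      push_cast
      group
  have hone : f ^ 23 ^ 1 = 1 := by
    funext a
    refine Subtype.ext ?_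
    rw [pow_one, hpow, F.conj_eq (m' := 1) (by rw [map_pow, hm, F.φ_lift, pS_order, map_one]) (hVA a.2)]
    simp [Function.End.one_def]
  have hfix : Fintype.card (Function.fixedPoints f) = 1 := by
    rw [Fintype.card_eq_one_iff]
    refine ⟨⟨1, Subtype.ext (by simp [f])⟩, fun a => ?_⟩
    exact Subtype.ext (Subtype.ext (F.fixed_S (F.φ_lift pS_mem) (hVA a.1.2) (congrArg Subtype.val a.2)))
  have hmod := Equiv.Perm.card_fixedPoints_modEq hone
  rw [hfix, ← Nat.card_eq_fintype_card] at hmod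
  obtain ⟨k, hk, hkV⟩ := (Nat.dvd_prime_pow Nat.prime_two).1 (F.card ▸ Subgroup.card_dvd_of_le hVA)
  have hk0 : k ≠ 0 := by
    rintro rfl
    rw [pow_zero] at hkV
    obtain ⟨p, q, hpq, -⟩ := F.duadQ
    have hmem : F.P.tt p q ∈ V := Subgroup.subset_closure ⟨p, q, hpq, rfl⟩
    rw [Subgroup.eq_bot_of_card_eq V hkV] at hmem
    exact (F.P.mem p q hpq).2.1 hmem
  have hk11 : k = 11 := by
    rw [hkV] at hmod
    have : ∀ j : Fin 12, j.1 ≠ 0 → 2 ^ j.1 % 23 = 1 % 23 → j.1 = 11 := by decide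
    exact this ⟨k, by omega⟩ hk0 hmod
  have hVA' : V = F.A := Subgroup.eq_of_le_of_card_ge hVA (by rw [hkV, hk11, F.card])
  exact hVA' ▸ hVW

/-- a nontrivial relation between the pairs at a point, avoiding a second point -/
theorem exists_relation (F : Frame z Q) : ∃ S : Finset GolayPt, S.Nonempty ∧ none ∉ S ∧ some 0 ∉ S ∧
    ∀ W : Subgroup G, ∀ r ∈ S, (∀ u ∈ S, u ≠ r → F.P.tt none u ∈ W) → F.P.tt none r ∈ W := by
  classical
  letI : CommGroup F.A := { (inferInstance : Group F.A) with mul_comm := fun a b => Subtype.ext (F.comm a.2 b.2).eq }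
  let g : GolayPt → F.A := fun r => if h : none ≠ r then ⟨F.P.tt none r, F.tt_mem h⟩ else 1
  set P0 : Finset GolayPt := (Finset.univ.erase none).erase (some 0) with hP0
  letI : Fintype F.A := Fintype.ofFinite _
  obtain ⟨S, hS, T, hT, hne, hST⟩ : ∃ S ∈ P0.powerset, ∃ T ∈ P0.powerset, S ≠ T ∧ ∏ r ∈ S, g r = ∏ r ∈ T, g r := by
    refine Finset.exists_ne_map_eq_of_card_lt_of_maps_to (t := Finset.univ) ?_ fun _ _ => Finset.mem_univ _
    rw [Finset.card_powerset, Finset.card_univ, ← Nat.card_eq_fintype_card, F.card, hP0]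
    exact Nat.pow_lt_pow_right (by norm_num) (by simp [GolayPt])
  rw [Finset.mem_powerset] at hS hT
  set D := symmDiff S T with hD
  have hDsub : D ⊆ P0 := fun x hx => by
    rcases Finset.mem_symmDiff.1 hx with h | h
    · exact hS h.1
    · exact hT h.1
  have hsq : ∀ a : F.A, a * a = 1 := fun a => Subtype.ext (F.sq a.2)
  have hprod : ∏ r ∈ D, g r = 1 := by
    have e1 : ∏ r ∈ S, g r = (∏ r ∈ S \ T, g r) * ∏ r ∈ S ∩ T, g r := by
      rw [← Finset.prod_union (Finset.disjoint_sdiff_inter S T), Finset.sdiff_union_inter]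
    have e2 : ∏ r ∈ T, g r = (∏ r ∈ T \ S, g r) * ∏ r ∈ S ∩ T, g r := by
      rw [Finset.inter_comm, ← Finset.prod_union (Finset.disjoint_sdiff_inter T S), Finset.sdiff_union_inter]
    rw [e1, e2, mul_left_inj] at hST
    rw [hD, symmDiff_def, Finset.sup_eq_union, Finset.prod_union disjoint_sdiff_sdiff, hST, hsq]
  refine ⟨D, Finset.nonempty_iff_ne_empty.2 fun h => hne (symmDiff_eq_bot.1 h), fun h => ?_, fun h => ?_,
    fun W r hr hW => ?_⟩
  · simpa [hP0] using hDsub h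
  · simpa [hP0] using hDsub h
  · have hn : ∀ u ∈ D, none ≠ u := fun u hu e => by
      have := hDsub hu
      rw [hP0, ← e] at this
      simp at this
    rw [← Finset.mul_prod_erase D g hr] at hprod
    have h2 : (∏ u ∈ D.erase r, g u) ∈ W.subgroupOf F.A := by
      refine Subgroup.prod_mem _ fun u hu => ?_
      rw [Finset.mem_erase] at hu
      show (g u : G) ∈ W
      rw [show g u = ⟨F.P.tt none u, F.tt_mem (hn u hu.2)⟩ from dif_pos (hn u hu.2)]
      exact hW u hu.2 hu.1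
    have h3 : g r ∈ W.subgroupOf F.A := by
      rw [eq_inv_of_mul_eq_one_left hprod]
      exact inv_mem h2
    rwa [show g r = ⟨F.P.tt none r, F.tt_mem (hn r hr)⟩ from dif_pos (hn r hr)] at h3

/-- `A` lies in any subgroup of index two of the centraliser of a pair containing the pair -/
theorem A_le (F : Frame z Q) {p q : GolayPt} (hpq : p ≠ q)
    (K : Subgroup ↥(Subgroup.centralizer ({F.P.tt p q} : Set G))) (hidx : K.index = 2)
    (htK : ∃ h, (⟨F.P.tt p q, h⟩ : ↥(Subgroup.centralizer ({F.P.tt p q} : Set G))) ∈ K) :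
    F.A ≤ K.map (Subgroup.centralizer ({F.P.tt p q} : Set G)).subtype := by
  let C := Subgroup.centralizer ({F.P.tt p q} : Set G)
  haveI : K.Normal := Subgroup.normal_of_index_eq_two hidx
  set Kg := K.map (Subgroup.centralizer ({F.P.tt p q} : Set G)).subtype with hKg
  have hAC : F.A ≤ C := fun a ha => Subgroup.mem_centralizer_singleton_iff.2 (F.comm ha (F.tt_mem hpq)).eq
  have hmul : ∀ {a b}, a ∈ F.A → b ∈ F.A → (a * b ∈ Kg ↔ (a ∈ Kg ↔ b ∈ Kg)) := by
    intro a b ha hb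
    have h := Subgroup.mul_mem_iff_of_index_two hidx (a := (⟨a, hAC ha⟩ : C)) (b := ⟨b, hAC hb⟩)
    have hm : ∀ {x} (hx : x ∈ C), x ∈ Kg ↔ (⟨x, hx⟩ : C) ∈ K := fun {x} hx =>
      ⟨fun ⟨y, hy, e⟩ => by rwa [show (⟨x, hx⟩ : C) = y from Subtype.ext e.symm], fun h => ⟨_, h, rfl⟩⟩
    rw [hm (mul_mem (hAC ha) (hAC hb)), hm (hAC ha), hm (hAC hb)]
    exact h
  have hmove : ∀ σ ∈ M24, σ p = p → σ q = q → ∀ u v, F.P.tt u v ∈ Kg → F.P.tt (σ u) (σ v) ∈ Kg := by
    intro σ hσ hp hq u v hKuv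
    have hmC : (F.lift hσ : G) ∈ C := by
      refine Subgroup.mem_centralizer_singleton_iff.2 (mul_inv_eq_iff_eq_mul.1 ?_)
      rw [F.P.equiv, F.φ_lift, hp, hq]
    obtain ⟨y, hy, e⟩ := hKuv
    exact ⟨_, (inferInstance : K.Normal).conj_mem y hy ⟨_, hmC⟩, by
      simp only [map_mul, map_inv, Subgroup.coe_subtype, show ((y : C) : G) = F.P.tt u v from e, F.P.equiv,
        F.φ_lift]⟩
  have htK' : F.P.tt p q ∈ Kg := by
    obtain ⟨h, hh⟩ := htK
    exact ⟨_, hh, rfl⟩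
  -- pairs away from `p`, `q`
  have hout : ∀ r s, r ≠ s → r ≠ p → r ≠ q → s ≠ p → s ≠ q → F.P.tt r s ∈ Kg := by
    intro r s hrs hrp hrq hsp hsq
    obtain ⟨u, hu1, hu2, hu3⟩ : ∃ u, u ∉ ({p, q, r, s} : Finset GolayPt) ∧ True ∧ True := by
      obtain ⟨u, hu⟩ : ∃ u, u ∉ ({p, q, r, s} : Finset GolayPt) := by
        by_contra h
        push Not at h
        have := Finset.eq_univ_iff_forall.2 h
        have h4 := Finset.card_le_four (a := p) (b := q) (c := r) (d := s)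
        rw [this, Finset.card_univ] at h4
        simp [GolayPt] at h4
      exact ⟨u, hu, trivial, trivial⟩
    simp only [Finset.mem_insert, Finset.mem_singleton, not_or] at hu1
    obtain ⟨up, uq, ur, us⟩ := hu1
    have hnd : ∀ a b, a ≠ b → a ≠ p → a ≠ q → b ≠ p → b ≠ q → [p, q, a, b].Nodup := fun a b h1 h2 h3 h4 h5 => by
      simp [hpq, h1, Ne.symm h2, Ne.symm h3, Ne.symm h4, Ne.symm h5]
    have hiff : ∀ a b a' b', a ≠ b → a ≠ p → a ≠ q → b ≠ p → b ≠ q → a' ≠ b' → a' ≠ p → a' ≠ q → b' ≠ p → b' ≠ q →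
        F.P.tt a b ∈ Kg → F.P.tt a' b' ∈ Kg := by
      intro a b a' b' h1 h2 h3 h4 h5 g1 g2 g3 g4 g5 h
      obtain ⟨σ, hσ, e1, e2, e3, e4⟩ := exists_four (hnd a b h1 h2 h3 h4 h5) (hnd a' b' g1 g2 g3 g4 g5)
      have := hmove σ hσ e1 e2 a b h
      rwa [e3, e4] at this
    have e1 : F.P.tt r s ∈ Kg ↔ F.P.tt s u ∈ Kg :=
      ⟨hiff r s s u hrs hrp hrq hsp hsq (Ne.symm us) hsp hsq up uq, hiff s u r s (Ne.symm us) hsp hsq up uq hrs hrp hrq hsp hsq⟩
    have e2 : F.P.tt r s ∈ Kg ↔ F.P.tt r u ∈ Kg :=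
      ⟨hiff r s r u hrs hrp hrq hsp hsq (Ne.symm ur) hrp hrq up uq, hiff r u r s (Ne.symm ur) hrp hrq up uq hrs hrp hrq hsp hsq⟩
    have h := hmul (F.tt_mem hrs) (F.tt_mem (Ne.symm us))
    rw [F.triangle hrs (Ne.symm us) (Ne.symm ur), ← e1, ← e2] at h
    exact h.2 Iff.rfl
  -- pairs at one end
  have hend : ∀ p' q', ((p' = p ∧ q' = q) ∨ (p' = q ∧ q' = p)) → ∀ x, x ≠ p → x ≠ q → F.P.tt p' x ∈ Kg := by
    intro p' q' hor x hxp hxq
    have hpq' : p' ≠ q' := by rcases hor with ⟨rfl, rfl⟩ | ⟨rfl, rfl⟩ <;> [exact hpq; exact hpq.symm]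
    obtain ⟨S, ⟨r, hr⟩, hn, h0, hrel⟩ := exists_relation F
    have hr0 : r ≠ some 0 := fun e => h0 (e ▸ hr)
    have hrn : r ≠ none := fun e => hn (e ▸ hr)
    obtain ⟨y, hy1, hy2, hy3⟩ := avoid none r (some 0)
    obtain ⟨e, he1, he2, he3⟩ := avoid p q x
    have hx1 : x ≠ p' ∧ x ≠ q' ∧ e ≠ p' ∧ e ≠ q' := by
      rcases hor with ⟨rfl, rfl⟩ | ⟨rfl, rfl⟩ <;> exact ⟨by assumption, by assumption, by assumption, by assumption⟩
    obtain ⟨σ, hσ, s1, s2, s3, -⟩ := exists_four (a := none) (b := r) (c := some 0) (e := y)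
      (a' := x) (b' := p') (c' := q') (e' := e)
      (by simp [hrn.symm, hr0, Ne.symm hy1, Ne.symm hy2, Ne.symm hy3])
      (by simp [hpq', hx1.1, hx1.2.1, Ne.symm hx1.2.2.1, Ne.symm hx1.2.2.2, Ne.symm he3])
    have hcomap := hrel (Kg.comap (MulAut.conj (F.lift hσ : G)).toMonoidHom) r hr fun u hu hur => by
      show _ * F.P.tt none u * _ ∈ Kg
      rw [F.P.equiv, F.φ_lift, s1]
      have hxu : σ u ≠ x := fun h => hn (by rwa [σ.injective (h.trans s1.symm)] at hu)
      have hp' : σ u ≠ p' := fun h => hur (σ.injective (h.trans s2.symm))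
      have hq' : σ u ≠ q' := fun h => h0 (by rwa [σ.injective (h.trans s3.symm)] at hu)
      rcases hor with ⟨rfl, rfl⟩ | ⟨rfl, rfl⟩
      · exact hout x (σ u) hxu.symm hxp hxq hp' hq'
      · exact hout x (σ u) hxu.symm hxp hxq hq' hp'
    rw [F.P.symm]
    change _ * F.P.tt none r * _ ∈ Kg at hcomap
    rwa [F.P.equiv, F.φ_lift, s1, s2] at hcomap
  refine duads_dense F fun u v huv => ?_
  by_cases h1 : u = p ∨ u = q <;> by_cases h2 : v = p ∨ v = q
  · rcases h1 with rfl | rfl <;> rcases h2 with rfl | rfl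
    · exact absurd rfl huv
    · exact htK'
    · rw [F.P.symm]; exact htK'
    · exact absurd rfl huv
  · push Not at h2
    rcases h1 with rfl | rfl
    · exact hend u q (Or.inl ⟨rfl, rfl⟩) v h2.1 h2.2
    · exact hend u p (Or.inr ⟨rfl, rfl⟩) v h2.1 h2.2
  · push Not at h1
    rw [F.P.symm]
    rcases h2 with rfl | rfl
    · exact hend v q (Or.inl ⟨rfl, rfl⟩) u h1.1 h1.2
    · exact hend v p (Or.inr ⟨rfl, rfl⟩) u h1.1 h1.2
  · push Not at h1 h2
    exact hout u v huv h1.1 h1.2 h2.1 h2.2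


end Cfsg.Agent.Lib.Fi24Recog30
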