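import Cfsg.Agent.Lib.Fi24Recog30.Comp
import Cfsg.Agent.Lib.FischerMTypes.StabilizerM22

/-!
The stabiliser of a state: a map of it into itself that keeps one member of the side on the side is
conjugation by one of its elements; what centralises the stabiliser of an edge in it.
-/

set_option autoImplicit false
set_option linter.style.haveILetI false
set_option linter.unusedSectionVars false

namespace Cfsg.Agent.Lib.Fi24Recog30

open Cfsg.Agent.Lib.FischerMTypes.Basic Cfsg.Agent.Lib.FischerMTypes.Primitive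
open Cfsg.Agent.Lib.FischerMTypes.TraceCounts (Sys)
open scoped commutatorElement

universe u v

variable {G : Type u} [Group G] [Finite G] {Y : Type v} [Group Y] [Finite Y] {E : Set Y}
variable {F : Type} [Field F] [Fintype F] {T : Top G Y E}

/-- the stabiliser of a state -/
def Top.Kv (v : T.St) : Subgroup G := MulAction.stabilizer G v

theorem Top.mem_Kv {v : T.St} {g : G} : g ∈ T.Kv v ↔ g • v = v := Iff.rfl

theorem Top.el_comm {v : T.St} {g : G} (hg : g ∈ T.Kv v) : Commute g v.el :=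
  mul_inv_eq_iff_eq_mul.1 (congrArg Top.St.el (T.mem_Kv.1 hg))

theorem Top.el_mem_Kv (v : T.St) : v.el ∈ T.Kv v := T.el_fix v

theorem Top.mem_Kv_smul {g x : G} {v : T.St} : x ∈ T.Kv (g • v) ↔ g⁻¹ * x * g ∈ T.Kv v := by
  rw [T.mem_Kv, T.mem_Kv, mul_smul, mul_smul, inv_smul_eq_iff]

variable (S : Sys E F)

include S in
theorem Top.Kv_o {k : G} : k ∈ T.Kv T.o ↔ k ∈ T.K :=
  ⟨fun h => T.mem_K_of_fix (exists_nonempty S) h, fun h => T.fix_K h⟩

include S in
theorem Top.card_Kv (v : T.St) : Nat.card ↥(T.Kv v) = Nat.card ↥T.K := by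
  obtain ⟨g, rfl⟩ := T.exists_smul v
  have hK : ∀ x : ↥T.K, g * (x : G) * g⁻¹ ∈ T.Kv (g • T.o) := fun x => by
    rw [T.mem_Kv_smul, T.Kv_o S]; simpa [mul_assoc] using x.2
  refine (Nat.card_congr ⟨fun x => ⟨g * (x : G) * g⁻¹, hK x⟩,
    fun y => ⟨g⁻¹ * (y : G) * g, (T.Kv_o S).1 (T.mem_Kv_smul.1 y.2)⟩, fun x => Subtype.ext (by simp [mul_assoc]),
    fun y => Subtype.ext (by simp [mul_assoc])⟩).symm

include S in
/-- three states on one involution are not distinct -/
theorem Top.two_states {u v w : T.St} (huv : u.el = v.el) (huw : u.el = w.el) : u = v ∨ u = w ∨ v = w := by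
  obtain ⟨g, rfl⟩ := T.exists_smul u
  obtain ⟨a, rfl⟩ := T.exists_smul v
  obtain ⟨b, rfl⟩ := T.exists_smul w
  have key : ∀ x : G, (g • T.o).el = (x • T.o).el → Commute (g⁻¹ * x) T.t := by
    intro x h
    simp only [Top.St.el_smul, T.o_el] at h
    refine mul_inv_eq_iff_eq_mul.1 ?_
    calc g⁻¹ * x * T.t * (g⁻¹ * x)⁻¹ = g⁻¹ * (x * T.t * x⁻¹) * g := by group
      _ = _ := by rw [← h]; group
  have ha := key a huv
  have hb := key b huw
  have fix : ∀ x : G, g⁻¹ * x ∈ T.K → g • T.o = x • T.o := fun x h => by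
    conv_lhs => rw [← T.fix_K h]
    rw [← mul_smul, mul_inv_cancel_left]
  by_cases h1 : g⁻¹ * a ∈ T.K
  · exact Or.inl (fix a h1)
  by_cases h2 : g⁻¹ * b ∈ T.K
  · exact Or.inr (Or.inl (fix b h2))
  refine Or.inr (Or.inr ?_)
  have h := T.two _ _ ha.inv_left hb (fun h => h1 (inv_inv (g⁻¹ * a) ▸ inv_mem h)) h2
  rw [show (g⁻¹ * a)⁻¹ * (g⁻¹ * b) = a⁻¹ * b by group] at h
  conv_lhs => rw [← T.fix_K h]
  rw [← mul_smul, mul_inv_cancel_left]

include S in
/-- states on one involution have one stabiliser -/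
theorem Top.Kv_congr {v w : T.St} (h : v.el = w.el) : T.Kv v = T.Kv w := by
  suffices key : ∀ v w : T.St, v.el = w.el → T.Kv v ≤ T.Kv w from le_antisymm (key v w h) (key w v h.symm)
  intro v w h g hg
  have hel : v.el = (g • w).el := by
    rw [← congrArg Top.St.el (T.mem_Kv.1 hg), Top.St.el_smul, Top.St.el_smul, h]
  rcases T.two_states S h hel with e | e | e
  · exact e ▸ hg
  · have h' : v = w := smul_left_cancel g ((T.mem_Kv.1 hg).trans e)
    exact h' ▸ hg
  · exact e.symm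

include S in
/-- an element of the group of a component centralising an involution fixes the state -/
theorem Top.fix_of_comm {v : T.St} {g : G} (h : Relation.ReflTransGen T.R v (g • v)) (hc : Commute g v.el) :
    g ∈ T.Kv v := by
  refine (T.el_inj S h ?_).symm
  rw [Top.St.el_smul, hc.eq, mul_inv_cancel_right]

include S in
/-- the stabiliser of an edge -/
theorem Top.edge_stab {v w : T.St} (hvw : T.Adj v w) {g : G} (hg : g ∈ T.Kv v) (hc : Commute g w.el) :
    g ∈ T.Kv w := by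
  have he : (g • w).el = w.el := by rw [Top.St.el_smul, hc.eq, mul_inv_cancel_right]
  have hv : g • v = v := hg
  refine T.eq_of_meet (exists_nonempty S) he (y := v.el) ?_ hvw.2
  have := ((T.adj_smul g v w).2 hvw).2
  rwa [hv] at this

set_option maxHeartbeats 1000000 in
include S in
/-- a map of the centraliser part into itself that keeps one member of the side on the side is conjugation -/
theorem Top.inner_o (θ : ↥T.K →* ↥T.K) (hinj : Function.Injective θ) {e f : Y} (he : e ∈ E) (hf : f ∈ E)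
    (hθ : θ (T.L e) = T.L f) : ∃ k : ↥T.K, ∀ x, θ x = k * x * k⁻¹ := by
  have hsurj : Function.Surjective θ := Finite.injective_iff_surjective.1 hinj
  set tt : ↥T.K := ⟨T.t, T.tK⟩ with htt
  have hZ : ∀ c : ↥T.K, (∀ x, Commute c x) → c = 1 ∨ c = tt := fun c hc => T.cover.ker c (by
    have : T.π c ∈ Subgroup.center Y := Subgroup.mem_center_iff.2 fun y => by
      obtain ⟨x, rfl⟩ := T.cover.surj y
      exact ((hc x).map T.π).eq.symm
    rwa [S.hZ, Subgroup.mem_bot] at this)
  have htc : θ tt = tt := by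
    refine (hZ (θ tt) fun x => ?_).resolve_left fun h => T.cover.ne (hinj (h.trans (map_one θ).symm))
    obtain ⟨x, rfl⟩ := hsurj x
    exact (show Commute tt x from T.cover.central x).map θ
  have hker : T.π.ker ≤ (T.π.comp θ).ker := fun x hx => by
    show T.π (θ x) = 1
    rcases T.cover.ker x hx with h | h <;> rw [h]
    · rw [map_one, map_one]
    · rw [htc, T.cover.one]
  let β : Y →* Y := T.π.liftOfSurjective T.cover.surj ⟨T.π.comp θ, hker⟩
  have hβ : ∀ x, β (T.π x) = T.π (θ x) := fun x =>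
    MonoidHom.liftOfRightInverse_comp_apply _ _ _ _ x
  have hβi : Function.Injective β := (injective_iff_map_eq_one β).2 fun y hy => by
    obtain ⟨x, rfl⟩ := T.cover.surj y
    rw [hβ] at hy
    rcases T.cover.ker _ hy with h | h
    · rw [hinj (h.trans (map_one θ).symm), map_one]
    · rw [hinj (h.trans htc.symm), T.cover.one]
  obtain ⟨g, hg, hgπ⟩ := T.full (MulEquiv.ofBijective β (Finite.injective_iff_bijective.1 hβi))
  let cg : ↥T.K →* ↥T.K := MonoidHom.mk' (fun k => ⟨g * k * g⁻¹, T.nor g hg k k.2⟩) fun a b =>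
    Subtype.ext (by show g * ((a : G) * b) * g⁻¹ = g * a * g⁻¹ * (g * b * g⁻¹); group)
  have hmod : ∀ k, (cg k)⁻¹ * θ k ∈ Subgroup.center ↥T.K := fun k => by
    have h1 : T.π (cg k) = T.π (θ k) := by rw [← hβ]; exact hgπ k
    rcases T.cover.ker ((cg k)⁻¹ * θ k) (by rw [map_mul, map_inv, h1, inv_mul_cancel]) with h | h <;> rw [h]
    · exact one_mem _
    · exact Subgroup.mem_center_iff.2 fun y => (T.cover.central y).symm
  have heq : θ = cg := by
    obtain ⟨hperf, -⟩ := T.qs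
    haveI := hperf
    refine MonoidHom.ext fun x => ?_
    suffices h : commutator ↥T.K ≤ θ.eqLocus cg by
      rw [Group.IsPerfect.commutator_eq_top] at h
      exact h (Subgroup.mem_top x)
    rw [commutator_def, Subgroup.commutator_le]
    intro a _ b _
    show θ ⁅a, b⁆ = cg ⁅a, b⁆
    rw [map_commutatorElement, map_commutatorElement,
      show θ a = cg a * ((cg a)⁻¹ * θ a) by rw [mul_inv_cancel_left],
      show θ b = cg b * ((cg b)⁻¹ * θ b) by rw [mul_inv_cancel_left]]
    have hc := fun y => Subgroup.mem_center_iff.1 (hmod a) y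
    have hd := fun y => Subgroup.mem_center_iff.1 (hmod b) y
    set c := (cg a)⁻¹ * θ a
    set d := (cg b)⁻¹ * θ b
    set p := cg a
    set q := cg b
    simp only [commutatorElement_def, mul_inv_rev]
    calc p * c * (q * d) * (c⁻¹ * p⁻¹) * (d⁻¹ * q⁻¹) = p * ((q * d) * c) * (c⁻¹ * p⁻¹) * (d⁻¹ * q⁻¹) := by
          rw [hc (q * d)]; group
      _ = p * q * (d * p⁻¹) * d⁻¹ * q⁻¹ := by group
      _ = p * q * (p⁻¹ * d) * d⁻¹ * q⁻¹ := by rw [hd p⁻¹]
      _ = _ := by group
  have hge : g * (T.L e : G) * g⁻¹ = T.L f := by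
    rw [← hθ, heq]
    rfl
  have hgK : g ∈ T.K := by
    rcases T.dich (exists_nonempty S) hg with h | ⟨-, h⟩
    · exact h.1
    exfalso
    have h1 : g * (T.L e : G) * g⁻¹ ∈ cs g T.side := conj_mem_cs.2 (T.mem_side he)
    rw [hge, h] at h1
    obtain ⟨y, hy, h2⟩ := h1
    exact T.not_side_of_shift hy (show (fun x => T.t * x) y ∈ T.side by rw [h2]; exact T.mem_side hf)
  exact ⟨⟨g, hgK⟩, fun x => by rw [heq]; exact Subtype.ext rfl⟩

include S in
/-- the same at any state -/
theorem Top.inner {v w w' : T.St} (hw : T.Adj v w) (hw' : T.Adj v w') (θ : ↥(T.Kv v) →* ↥(T.Kv v))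
    (hinj : Function.Injective θ) (hθ : ∀ h : w.el ∈ T.Kv v, (θ ⟨w.el, h⟩ : G) = w'.el) :
    ∃ k : ↥(T.Kv v), ∀ x, θ x = k * x * k⁻¹ := by
  obtain ⟨g, rfl⟩ := T.exists_smul v
  let c : ↥T.K ≃* ↥(T.Kv (g • T.o)) :=
    { toFun := fun x => ⟨g * x * g⁻¹, by rw [T.mem_Kv_smul, T.Kv_o S]; simpa [mul_assoc] using x.2⟩
      invFun := fun y => ⟨g⁻¹ * (y : G) * g, (T.Kv_o S).1 (T.mem_Kv_smul.1 y.2)⟩
      left_inv := fun x => Subtype.ext (by simp [mul_assoc])
      right_inv := fun y => Subtype.ext (by simp [mul_assoc])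
      map_mul' := fun a b => Subtype.ext (by
        show g * ((a : G) * b) * g⁻¹ = g * a * g⁻¹ * (g * b * g⁻¹); group) }
  have hcv : ∀ x, ((c x : ↥(T.Kv (g • T.o))) : G) = g * (x : G) * g⁻¹ := fun _ => rfl
  have hsd : ∀ {u : T.St}, T.Adj (g • T.o) u → ∃ e ∈ E, u.el = g * (T.L e : G) * g⁻¹ := by
    intro u hu
    obtain ⟨y, ⟨e, he, rfl⟩, hy⟩ := hu.1
    exact ⟨e, he, hy.symm⟩
  obtain ⟨e, he, hwe⟩ := hsd hw
  obtain ⟨f, hf, hwf⟩ := hsd hw'
  let θ₀ : ↥T.K →* ↥T.K := c.symm.toMonoidHom.comp (θ.comp c.toMonoidHom)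
  obtain ⟨k, hk⟩ := T.inner_o S θ₀ (c.symm.injective.comp (hinj.comp c.injective)) he hf (by
    refine c.injective (Subtype.ext ?_)
    show ((c (c.symm (θ (c (T.L e)))) : ↥(T.Kv (g • T.o))) : G) = _
    rw [c.apply_symm_apply, hcv (T.L f), ← hwf]
    have hmem : w.el ∈ T.Kv (g • T.o) := by rw [hwe]; exact (c (T.L e)).2
    rw [← hθ hmem]
    congr 3
    exact Subtype.ext hwe.symm)
  refine ⟨c k, fun x => c.symm.injective ?_⟩
  have h := hk (c.symm x)
  simp only [θ₀, MonoidHom.comp_apply, MulEquiv.coe_toMonoidHom, MulEquiv.apply_symm_apply] at h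
  rw [h, map_mul, map_mul, map_inv, MulEquiv.symm_apply_apply]

include S in
/-- what centralises the stabiliser of an edge in the stabiliser of a state -/
theorem Top.cent_edge {v w : T.St} (hw : T.Adj v w) {k : G} (hk : k ∈ T.Kv v)
    (hc : ∀ x ∈ T.Kv v, Commute x w.el → Commute k x) :
    k = 1 ∨ k = v.el ∨ k = w.el ∨ k = v.el * w.el := by
  obtain ⟨g, rfl⟩ := T.exists_smul v
  obtain ⟨y, ⟨e, he, rfl⟩, hy⟩ := hw.1
  set k₀ : ↥T.K := ⟨g⁻¹ * k * g, (T.Kv_o S).1 (T.mem_Kv_smul.1 hk)⟩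
  have hk₀ : ∀ x : ↥T.K, Commute x (T.L e) → Commute k₀ x := fun x hx => by
    have h1 : Commute (g * (x : G) * g⁻¹) w.el := by
      rw [← hy]
      exact (show Commute (x : G) (T.L e : G) from congrArg Subtype.val hx).map (MulAut.conj g).toMonoidHom
    have h2 := hc (g * (x : G) * g⁻¹) (by rw [T.mem_Kv_smul, T.Kv_o S]; simpa [mul_assoc] using x.2) h1
    have h3 := h2.map (MulAut.conj g⁻¹).toMonoidHom
    exact Subtype.ext (show g⁻¹ * k * g * (x : G) = (x : G) * (g⁻¹ * k * g) by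
      simpa [mul_assoc] using h3.eq)
  have hke : Commute k₀ (T.L e) := hk₀ _ (Commute.refl _)
  have hp : T.π k₀ ∈ Subgroup.closure (perp E e) := by
    rw [FischerMTypes.StabilizerM22.centralizer_eq S he, Subgroup.mem_centralizer_singleton_iff]
    have := hke.map T.π
    rwa [T.sect.proj e he] at this
  have hcp : ∀ y ∈ perp E e, Commute y (T.π k₀) := fun y hy' => by
    have h := (hk₀ (T.L y) (T.sect.comm y hy'.1 e he hy'.2.2.symm)).map T.π
    rw [T.sect.proj y hy'.1] at h
    exact h.symm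
  have hout : ∀ x : ↥T.K, (x = 1 ∨ x = ⟨T.t, T.tK⟩ ∨ x = T.L e ∨ x = ⟨T.t, T.tK⟩ * T.L e) → x = k₀ →
      k = 1 ∨ k = (g • T.o).el ∨ k = w.el ∨ k = (g • T.o).el * w.el := by
    intro x hx hxk
    have hkk : k = g * (x : G) * g⁻¹ := by rw [hxk]; simp [k₀, mul_assoc]
    rw [hkk, ← hy, Top.St.el_smul, T.o_el]
    rcases hx with rfl | rfl | rfl | rfl
    · exact Or.inl (by simp)
    · exact Or.inr (Or.inl rfl)
    · exact Or.inr (Or.inr (Or.inl rfl))
    · refine Or.inr (Or.inr (Or.inr ?_))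
      show g * (T.t * (T.L e : G)) * g⁻¹ = g * T.t * g⁻¹ * (g * (T.L e : G) * g⁻¹)
      group
  rcases FischerMTypes.StabilizerM22.center_perp S he hp hcp with h | h
  · rcases T.cover.ker k₀ h with h' | h'
    · exact hout 1 (Or.inl rfl) h'.symm
    · exact hout _ (Or.inr (Or.inl rfl)) h'.symm
  · rcases T.cover.eq_or (T.L e) k₀ (h.trans (T.sect.proj e he).symm) with h' | h'
    · exact hout _ (Or.inr (Or.inr (Or.inl rfl))) h'.symm
    · exact hout _ (Or.inr (Or.inr (Or.inr rfl))) h'.symm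

include S in
/-- the centraliser of the centraliser part -/
theorem Top.cent_K {g : G} (hg : Commute g T.t) (hc : ∀ x ∈ T.K, Commute g x) : g = 1 ∨ g = T.t := by
  have hne := exists_nonempty S
  have hgK : g ∈ T.K := by
    rcases T.dich hne hg with h | ⟨-, h⟩
    · exact h.1
    exfalso
    obtain ⟨e, he⟩ := hne
    have h1 : g * (T.L e : G) * g⁻¹ ∈ cs g T.side := conj_mem_cs.2 (T.mem_side he)
    rw [(hc _ (T.L e).2).eq, mul_inv_cancel_right, h] at h1
    obtain ⟨y, hy, h2⟩ := h1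
    exact T.not_side_of_shift hy (show (fun x => T.t * x) y ∈ T.side by rw [h2]; exact T.mem_side he)
  have hz : T.π ⟨g, hgK⟩ = 1 := by
    have : T.π ⟨g, hgK⟩ ∈ Subgroup.center Y := Subgroup.mem_center_iff.2 fun y => by
      obtain ⟨x, rfl⟩ := T.cover.surj y
      exact ((show Commute (⟨g, hgK⟩ : ↥T.K) x from Subtype.ext (hc x x.2).eq).map T.π).eq.symm
    rwa [S.hZ, Subgroup.mem_bot] at this
  exact (T.cover.ker _ hz).imp (congrArg Subtype.val) (congrArg Subtype.val)

end Cfsg.Agent.Lib.Fi24Recog30
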