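import Mathlib
import Cfsg.Agent.Lib.FischerM23C90.Near

/-!
A graph in which the neighbours of every vertex are the transpositions of a group of type M(22),
adjacent when they commute, has components of diameter at most two.
-/

set_option autoImplicit false
set_option linter.style.haveILetI false
set_option linter.unusedSectionVars false

namespace Cfsg.Agent.Lib.Fi24Recog30

open Cfsg.Agent.Lib.FischerMTypes.Basic Cfsg.Agent.Lib.FischerMTypes.Primitive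
  Cfsg.Agent.Lib.FischerMTypes.Aut22 Cfsg.Agent.Lib.FischerMTypes.Syl22
open Cfsg.Agent.Lib.FischerMTypes.TraceCounts (Sys)
open Cfsg.Agent.Lib.FischerMTypes.TraceSize (ncard_trace ncard_meet mem_near)
open Cfsg.Agent.Lib.FischerM23C90 (meet_all line_meet line_all)

variable {V : Type*} {Q : Type*} [Group Q] [Finite Q] {E : Set Q}
variable {F : Type} [Field F] [Fintype F]

/-- a local model: equality or adjacency is the relation `R` -/
structure Refl (R : V → V → Prop) : Prop where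
  refl : ∀ a, R a a
  symm : ∀ {a b}, R a b → R b a

/-- the neighbours -/
def nb (R : V → V → Prop) (a : V) : Set V := {x | x ≠ a ∧ R a x}

/-- the neighbours of `a` indexed by transpositions -/
structure GChart (R : V → V → Prop) (E : Set Q) (a : V) (l : Q → V) : Prop where
  mem : ∀ e ∈ E, l e ∈ nb R a
  surj : ∀ x ∈ nb R a, ∃ e ∈ E, l e = x
  inj : ∀ e ∈ E, ∀ f ∈ E, l e = l f → e = f
  comm : ∀ e ∈ E, ∀ f ∈ E, (R (l e) (l f) ↔ Commute e f)

variable {R : V → V → Prop} (hR : Refl R) (S : Sys E F) (hch : ∀ a, ∃ l, GChart R E a l)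

/-- the vertices related to four given ones and to all that are so -/
def core (R : V → V → Prop) (b p q r : V) : Set V :=
  {y | R y b ∧ R y p ∧ R y q ∧ R y r ∧ ∀ w, R w b → R w p → R w q → R w r → R y w}

theorem core_perm (b p q r : V) : core R p q b r = core R b p q r := by
  ext y
  simp only [core, Set.mem_ofPred_eq]
  constructor <;> rintro ⟨h2, h3, h4, h5, h6⟩
  · exact ⟨h4, h2, h3, h5, fun w a1 a2 a3 a4 => h6 w a2 a3 a1 a4⟩
  · exact ⟨h3, h4, h2, h5, fun w a1 a2 a3 a4 => h6 w a3 a1 a2 a4⟩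

include hR in
theorem GChart.core_iff {a : V} {l : Q → V} (c : GChart R E a l) {e f g : Q} (h : Tri E e f g) {y : V} :
    y ∈ core R a (l e) (l f) (l g) ↔ y = a ∨ ∃ s ∈ six E e f g, l s = y := by
  have hcomm : ∀ {u}, u ∈ E → R a (l u) := fun hu => (c.mem _ hu).2
  have hmem : ∀ {w}, R w a → w ≠ a → ∃ t ∈ E, l t = w := fun hwa hne => c.surj _ ⟨hne, hR.symm hwa⟩
  constructor
  · rintro ⟨h1, h2, h3, h4, h5⟩
    by_cases hya : y = a
    · exact Or.inl hya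
    obtain ⟨s, hs, rfl⟩ := hmem h1 hya
    refine Or.inr ⟨s, ⟨⟨hs, ((c.comm s hs e h.ma).mp h2).symm, ((c.comm s hs f h.mb).mp h3).symm,
      ((c.comm s hs g h.mc).mp h4).symm⟩, fun t ht => ?_⟩, rfl⟩
    exact (c.comm s hs t ht.1).mp (h5 _ (hR.symm (hcomm ht.1)) (hR.symm ((c.comm e h.ma t ht.1).mpr ht.2.1))
      (hR.symm ((c.comm f h.mb t ht.1).mpr ht.2.2.1)) (hR.symm ((c.comm g h.mc t ht.1).mpr ht.2.2.2)))
  · rintro (rfl | ⟨s, hs, rfl⟩)
    · exact ⟨hR.refl _, hcomm h.ma, hcomm h.mb, hcomm h.mc, fun w h1 _ _ _ => hR.symm h1⟩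
    · obtain ⟨⟨hsE, s1, s2, s3⟩, hall⟩ := hs
      refine ⟨hR.symm (hcomm hsE), hR.symm ((c.comm e h.ma s hsE).mpr s1),
        hR.symm ((c.comm f h.mb s hsE).mpr s2), hR.symm ((c.comm g h.mc s hsE).mpr s3), fun w h1 h2 h3 h4 => ?_⟩
      by_cases hwa : w = a
      · rw [hwa]; exact hR.symm (hcomm hsE)
      obtain ⟨t, ht, rfl⟩ := hmem h1 hwa
      exact (c.comm s hsE t ht).mpr (hall t ⟨ht, ((c.comm t ht e h.ma).mp h2).symm, ((c.comm t ht f h.mb).mp h3).symm,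
        ((c.comm t ht g h.mc).mp h4).symm⟩)

include hR S hch in
/-- a six with two members joined to `d` and one not has exactly one further such member -/
theorem third {b d : V} (hdb : ¬ R d b) {l : Q → V} (c : GChart R E b l)
    {p q r : Q} (h : Tri E p q r) (hp : R d (l p)) (hq : R d (l q)) (hr : ¬ R d (l r)) :
    ∃ s ∈ six E p q r, s ≠ p ∧ s ≠ q ∧ R d (l s) ∧
      ∀ t ∈ six E p q r, t ≠ p → t ≠ q → R d (l t) → t = s := by
  obtain ⟨m, cm⟩ := hch (l p)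
  have hbl : ∀ {u}, u ∈ E → l u ≠ b := fun hu => (c.mem _ hu).1
  have hdl : ∀ {u}, u ∈ E → d ≠ l u := fun {u} hu e => hdb (e ▸ hR.symm (c.mem u hu).2)
  obtain ⟨β, hβ, eβ⟩ := cm.surj b ⟨(hbl h.ma).symm, hR.symm (c.mem p h.ma).2⟩
  obtain ⟨χ, hχ, eχ⟩ := cm.surj (l q) ⟨fun e => h.nab (c.inj q h.mb p h.ma e).symm,
    (c.comm p h.ma q h.mb).mpr h.cab⟩
  obtain ⟨ρ, hρ, eρ⟩ := cm.surj (l r) ⟨fun e => h.nac (c.inj r h.mc p h.ma e).symm,
    (c.comm p h.ma r h.mc).mpr h.cac⟩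
  obtain ⟨δ, hδ, eδ⟩ := cm.surj d ⟨hdl h.ma, hR.symm hp⟩
  have htri : Tri E χ β ρ := by
    refine ⟨hχ, hβ, hρ, fun e => hbl h.mb ?_, fun e => h.nbc (c.inj q h.mb r h.mc ?_),
      fun e => hbl h.mc ?_, (cm.comm χ hχ β hβ).mp ?_, (cm.comm χ hχ ρ hρ).mp ?_, (cm.comm β hβ ρ hρ).mp ?_⟩
    · rw [← eχ, e, eβ]
    · rw [← eχ, e, eρ]
    · rw [← eρ, ← e, eβ]
    · rw [eχ, eβ]; exact hR.symm (c.mem q h.mb).2
    · rw [eχ, eρ]; exact (c.comm q h.mb r h.mc).mpr h.cbc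
    · rw [eβ, eρ]; exact (c.mem r h.mc).2
  have hδχ : δ ∈ perp E χ := ⟨hδ, fun e => hdl h.mb (by rw [← eδ, e, eχ]),
    (cm.comm χ hχ δ hδ).mp (by rw [eχ, eδ]; exact hR.symm hq)⟩
  have hδβ : ¬ Commute δ β := fun e => hdb (by rw [← eδ, ← eβ]; exact (cm.comm δ hδ β hβ).mpr e)
  have hδρ : ¬ Commute δ ρ := fun e => hr (by rw [← eδ, ← eρ]; exact (cm.comm δ hδ ρ hρ).mpr e)
  obtain ⟨x, hx, nχ, nβ, -, hδx⟩ := line_meet S htri hδχ hδβ hδρ
  have hcore : core R (l p) (m χ) (m β) (m ρ) = core R b (l p) (l q) (l r) := by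
    rw [eχ, eβ, eρ, core_perm]
  have htr : ∀ {u}, u ∈ six E χ β ρ → u ≠ β → ∃ t ∈ six E p q r, t ≠ p ∧ (u ≠ χ → t ≠ q) ∧ l t = m u := by
    intro u hu nu
    have h1 : m u ∈ core R b (l p) (l q) (l r) := hcore ▸ (cm.core_iff hR htri).mpr (Or.inr ⟨u, hu, rfl⟩)
    rcases (c.core_iff hR h).mp h1 with e | ⟨t, ht, e⟩
    · exact absurd (cm.inj u hu.1.1 β hβ (e.trans eβ.symm)) nu
    · refine ⟨t, ht, fun et => (cm.mem u hu.1.1).1 (by rw [← e, et]), fun nuχ et => nuχ ?_, e⟩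
      exact cm.inj u hu.1.1 χ hχ (by rw [← e, et, eχ])
  obtain ⟨s, hs, nsp, nsq, es⟩ := htr hx nβ
  refine ⟨s, hs, nsp, nsq nχ, ?_, fun t ht ntp ntq hdt => ?_⟩
  · rw [es, ← eδ]; exact (cm.comm δ hδ x hx.1.1).mpr hδx
  · have h1 : l t ∈ core R (l p) (m χ) (m β) (m ρ) := hcore ▸ (c.core_iff hR h).mpr (Or.inr ⟨t, ht, rfl⟩)
    rcases (cm.core_iff hR htri).mp h1 with e | ⟨u, hu, e⟩
    · exact absurd (c.inj t ht.1.1 p h.ma e) ntp
    · have nuχ : u ≠ χ := fun eu => ntq (c.inj t ht.1.1 q h.mb (by rw [← e, eu, eχ]))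
      have hux : u = x := by
        by_contra hne
        refine hδβ (line_all S htri hu hx nuχ nχ hne hδ hδχ.2.2.symm ?_ hδx β (htri.mem_six (Or.inr (Or.inl rfl))))
        exact (cm.comm δ hδ u hu.1.1).mp (by rw [eδ, e]; exact hdt)
      exact c.inj t ht.1.1 s hs.1.1 (by rw [← e, hux, es])

include hR S hch in
/-- a vertex not related to `b` is not related to a whole six of the chart at `b` -/
theorem not_all_six {b d : V} (hdb : ¬ R d b) {l : Q → V} (c : GChart R E b l) {p q r : Q} (h : Tri E p q r) :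
    ∃ w ∈ six E p q r, ¬ R d (l w) := by
  by_contra hall
  push Not at hall
  obtain ⟨m, cm⟩ := hch (l p)
  have hbl : ∀ {u}, u ∈ E → l u ≠ b := fun hu => (c.mem _ hu).1
  obtain ⟨β, hβ, eβ⟩ := cm.surj b ⟨(hbl h.ma).symm, hR.symm (c.mem p h.ma).2⟩
  obtain ⟨χ, hχ, eχ⟩ := cm.surj (l q) ⟨fun e => h.nab (c.inj q h.mb p h.ma e).symm,
    (c.comm p h.ma q h.mb).mpr h.cab⟩
  obtain ⟨ρ, hρ, eρ⟩ := cm.surj (l r) ⟨fun e => h.nac (c.inj r h.mc p h.ma e).symm,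
    (c.comm p h.ma r h.mc).mpr h.cac⟩
  obtain ⟨δ, hδ, eδ⟩ := cm.surj d ⟨fun e => hdb (e ▸ hR.symm (c.mem p h.ma).2),
    hR.symm (hall p (h.mem_six (Or.inl rfl)))⟩
  have htri : Tri E χ β ρ := by
    refine ⟨hχ, hβ, hρ, fun e => hbl h.mb ?_, fun e => h.nbc (c.inj q h.mb r h.mc ?_),
      fun e => hbl h.mc ?_, (cm.comm χ hχ β hβ).mp ?_, (cm.comm χ hχ ρ hρ).mp ?_, (cm.comm β hβ ρ hρ).mp ?_⟩
    · rw [← eχ, e, eβ]
    · rw [← eχ, e, eρ]
    · rw [← eρ, ← e, eβ]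
    · rw [eχ, eβ]; exact hR.symm (c.mem q h.mb).2
    · rw [eχ, eρ]; exact (c.comm q h.mb r h.mc).mpr h.cbc
    · rw [eβ, eρ]; exact (c.mem r h.mc).2
  have hcore : core R (l p) (m χ) (m β) (m ρ) = core R b (l p) (l q) (l r) := by
    rw [eχ, eβ, eρ, core_perm]
  have hδu : ∀ u ∈ six E χ β ρ, u ≠ β → Commute δ u := fun u hu nu => by
    have h1 : m u ∈ core R b (l p) (l q) (l r) := hcore ▸ (cm.core_iff hR htri).mpr (Or.inr ⟨u, hu, rfl⟩)
    rcases (c.core_iff hR h).mp h1 with e | ⟨t, ht, e⟩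
    · exact absurd (cm.inj u hu.1.1 β hβ (e.trans eβ.symm)) nu
    · exact (cm.comm δ hδ u hu.1.1).mp (by rw [eδ, ← e]; exact hall t ht)
  obtain ⟨x, hx, hxn⟩ := Set.exists_mem_notMem_of_ncard_lt_ncard (s := ({χ, β, ρ} : Set Q)) (t := six E χ β ρ)
    (by rw [ncard_six S htri, Set.ncard_eq_three.mpr ⟨_, _, _, htri.nab, htri.nac, htri.nbc, rfl⟩]; norm_num)
    (Set.toFinite _)
  simp only [Set.mem_insert_iff, Set.mem_singleton_iff, not_or] at hxn
  have hc := line_all S htri hx (htri.mem_six (Or.inr (Or.inr rfl))) hxn.1 htri.nac.symm hxn.2.2 hδ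
    (hδu χ (htri.mem_six (Or.inl rfl)) htri.nab) (hδu x hx hxn.2.1)
    (hδu ρ (htri.mem_six (Or.inr (Or.inr rfl))) htri.nbc.symm) β (htri.mem_six (Or.inr (Or.inl rfl)))
  exact hdb (by rw [← eδ, ← eβ]; exact (cm.comm δ hδ β hβ).mpr hc)

include hR S hch in
/-- a neighbour of a vertex at distance two is joined to a common neighbour -/
theorem near_step {d b x : V} (hdb : ¬ R d b) (hW : (nb R d ∩ nb R b).Nonempty) (hx : x ∈ nb R b) :
    ∃ p ∈ nb R d ∩ nb R b, R x p := by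
  classical
  by_contra hno
  push Not at hno
  obtain ⟨a, ha⟩ := hW
  obtain ⟨l, c⟩ := hch b
  obtain ⟨α, hα, eα⟩ := c.surj a ha.2
  obtain ⟨ξ, hξ, eξ⟩ := c.surj x hx
  have hαξ : ¬ Commute α ξ := fun e => hno a ha (by rw [← eξ, ← eα]; exact hR.symm ((c.comm α hα ξ hξ).mpr e))
  obtain ⟨ε, hεα, hεξ⟩ : (perp₂ E α ξ).Nonempty := Set.nonempty_of_ncard_ne_zero (by
    rw [ncard_trace S hα hξ hαξ]; norm_num)
  have hεE := hεα.1
  have hxε : R x (l ε) := by rw [← eξ]; exact (c.comm ξ hξ ε hεE).mpr hεξ.2.2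
  have hdε : ¬ R d (l ε) := fun e => hno (l ε)
    ⟨⟨fun h => hdb (h ▸ hR.symm (c.mem ε hεE).2), e⟩, c.mem ε hεE⟩ hxε
  -- in the chart at `a`
  obtain ⟨m, cm⟩ := hch a
  obtain ⟨β, hβ, eβ⟩ := cm.surj b ⟨ha.2.1.symm, hR.symm ha.2.2⟩
  obtain ⟨δ, hδ, eδ⟩ := cm.surj d ⟨ha.1.1.symm, hR.symm ha.1.2⟩
  obtain ⟨η, hη, eη⟩ := cm.surj (l ε) ⟨fun e => hεα.2.1 (c.inj ε hεE α hα (e.trans eα.symm)),
    by rw [← eα]; exact (c.comm α hα ε hεE).mpr hεα.2.2⟩
  have hβδ : ¬ Commute β δ := fun e => hdb (by rw [← eδ, ← eβ]; exact hR.symm ((cm.comm β hβ δ hδ).mpr e))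
  have hηβ : η ∈ perp E β := ⟨hη, fun e => (c.mem ε hεE).1 (by rw [← eη, e, eβ]),
    (cm.comm β hβ η hη).mp (by rw [eβ, eη]; exact (c.mem ε hεE).2)⟩
  have hηt : η ∉ perp₂ E β δ := fun hh => hdε (by
    rw [← eδ, ← eη]; exact (cm.comm δ hδ η hη).mpr hh.2.2.2)
  obtain ⟨γ', hγt, hγη⟩ : {p | p ∈ perp₂ E β δ ∧ Commute p η}.Nonempty := Set.nonempty_of_ncard_ne_zero (by
    rw [ncard_meet S hβ (mem_near S hβ hδ hβδ) hηβ hηt]; norm_num)
  have hγE : γ' ∈ E := hγt.1.1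
  have hcW : m γ' ∈ nb R d ∩ nb R b := by
    have h1 : R d (m γ') := by rw [← eδ]; exact (cm.comm δ hδ γ' hγE).mpr hγt.2.2.2
    have h2 : R b (m γ') := by rw [← eβ]; exact (cm.comm β hβ γ' hγE).mpr hγt.1.2.2
    exact ⟨⟨fun e => hγt.2.2.1 (cm.inj γ' hγE δ hδ (e.trans eδ.symm)), h1⟩,
      ⟨fun e => hγt.1.2.1 (cm.inj γ' hγE β hβ (e.trans eβ.symm)), h2⟩⟩
  obtain ⟨γ, hγ, eγ⟩ := c.surj (m γ') hcW.2
  -- a base of the chart at `b`
  have hdα : R d (l α) := by rw [eα]; exact ha.1.2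
  have hdγ : R d (l γ) := by rw [eγ]; exact hcW.1.2
  have nγα : γ ≠ α := fun e => (cm.mem γ' hγE).1 (by rw [← eγ, e, eα])
  have nγε : γ ≠ ε := fun e => hdε (e ▸ hdγ)
  have cαγ : Commute α γ := (c.comm α hα γ hγ).mp (by rw [eα, eγ]; exact (cm.mem γ' hγE).2)
  have cεγ : Commute ε γ := (c.comm ε hεE γ hγ).mp (by
    rw [← eη, eγ]; exact hR.symm ((cm.comm γ' hγE η hη).mpr hγη))
  have cαε : Commute α ε := hεα.2.2
  have nαε : α ≠ ε := fun e => hεα.2.1 e.symm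
  have htri : Tri E ε α γ := ⟨hεE, hα, hγ, nαε.symm, nγε.symm, nγα.symm, cαε.symm, cεγ, cαγ⟩
  obtain ⟨B, hB, hsub⟩ := FischerMTypes90.exists_base_of_clique S (X := {ε, α, γ})
    (by rintro u (rfl | rfl | rfl) <;> assumption)
    (by
      rintro u (rfl | rfl | rfl) v (rfl | rfl | rfl)
      exacts [Commute.refl _, cαε.symm, cεγ, cαε, Commute.refl _, cαγ, cεγ.symm, cαγ.symm, Commute.refl _])
  have hεB : ε ∈ B := hsub (by simp)
  have hαB : α ∈ B := hsub (by simp)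
  have hγB : γ ∈ B := hsub (by simp)
  -- two points of the base joined to `x`
  have hξε : ξ ∈ perp E ε := ⟨hξ, Ne.symm hεξ.2.1, hεξ.2.2.symm⟩
  have hξα : ¬ Commute ξ α := fun e => hαξ e.symm
  have hξγ : ¬ Commute ξ γ := fun e => hno (m γ') hcW (by rw [← eξ, ← eγ]; exact (c.comm ξ hξ γ hγ).mpr e)
  obtain ⟨h1, hh1, n1ε, n1α, -, hξh1⟩ := line_meet S htri hξε hξα hξγ
  obtain ⟨r, hrB, hr⟩ := Set.exists_mem_notMem_of_ncard_lt_ncard (s := six E ε α γ) (t := B)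
    (by rw [ncard_six S htri, hB.card]; norm_num) (Set.toFinite _)
  have h1B : h1 ∈ B := hB.closed S hεB hαB hγB hh1
  have nrε : r ≠ ε := fun e => hr (e ▸ htri.mem_six (Or.inl rfl))
  have nrα : r ≠ α := fun e => hr (e ▸ htri.mem_six (Or.inr (Or.inl rfl)))
  obtain ⟨h2, h2B, n2ε, n21, hξh2⟩ : ∃ h2 ∈ B, h2 ≠ ε ∧ h2 ≠ h1 ∧ Commute ξ h2 := by
    by_cases hrξ : Commute ξ r
    · exact ⟨r, hrB, nrε, fun e => hr (e ▸ hh1), hrξ⟩
    · have htri2 : Tri E ε α r := hB.tri hεB hαB hrB nαε.symm nrε.symm nrα.symm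
      obtain ⟨h2, hh2, n2ε, n2α, -, hξh2⟩ := line_meet S htri2 hξε hξα hrξ
      refine ⟨h2, hB.closed S hεB hαB hrB hh2, n2ε, fun e => hr ?_, hξh2⟩
      have e1 := six_eq S htri (htri.mem_six (Or.inl rfl)) (htri.mem_six (Or.inr (Or.inl rfl))) hh1
        nαε.symm n1ε.symm n1α.symm
      have e2 := six_eq S htri2 (htri2.mem_six (Or.inl rfl)) (htri2.mem_six (Or.inr (Or.inl rfl))) hh2
        nαε.symm n2ε.symm n2α.symm
      rw [← e1, ← e, e2]
      exact htri2.mem_six (Or.inr (Or.inr rfl))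
  -- the members of the base joined to `d`
  let := Fintype.ofFinite B
  have T := FischerMTypes90.base_system S hB
  set P : Finset B := Finset.univ.filter fun p : B => R d (l (p : Q))
  have hP2 : 2 ≤ P.card := Finset.one_lt_card.mpr ⟨⟨α, hαB⟩, by simp [P, hdα], ⟨γ, hγB⟩, by simp [P, hdγ],
    fun e => nγα (congrArg Subtype.val e).symm⟩
  have hP3 : ∀ H ∈ blks E B, 2 ≤ (H ∩ P).card → (H ∩ P).card = 3 := by
    intro H hH h2c
    obtain ⟨p', q', r', n1, n2, n3, rfl⟩ := mem_blks.mp hH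
    have ht' : Tri E (p' : Q) q' r' := hB.tri p'.2 q'.2 r'.2 (Subtype.coe_ne_coe.mpr n1) (Subtype.coe_ne_coe.mpr n2)
      (Subtype.coe_ne_coe.mpr n3)
    obtain ⟨p, hp, q, hq, hpq⟩ := Finset.one_lt_card.mp h2c
    simp only [Finset.mem_inter, mem_blk, P, Finset.mem_filter, Finset.mem_univ, true_and] at hp hq
    obtain ⟨w, hw, hdw⟩ := not_all_six hR S hch hdb c ht'
    have nwp : w ≠ p := fun e => hdw (e ▸ hp.2)
    have nwq : w ≠ q := fun e => hdw (e ▸ hq.2)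
    have hpq' : (p : Q) ≠ q := Subtype.coe_ne_coe.mpr hpq
    have e3 := six_eq S ht' hp.1 hq.1 hw hpq' nwp.symm nwq.symm
    have ht3 : Tri E (p : Q) q w := hB.tri p.2 q.2 (hB.closed S p'.2 q'.2 r'.2 hw) hpq' nwp.symm nwq.symm
    obtain ⟨s, hs, nsp, nsq, hds, huniq⟩ := third hR S hch hdb c ht3 hp.2 hq.2 hdw
    rw [e3] at hs huniq
    rw [Finset.card_eq_three]
    refine ⟨p, q, ⟨s, hB.closed S p'.2 q'.2 r'.2 hs⟩, hpq, fun e => nsp (congrArg Subtype.val e).symm,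
      fun e => nsq (congrArg Subtype.val e).symm, ?_⟩
    ext u
    simp only [Finset.mem_inter, mem_blk, P, Finset.mem_filter, Finset.mem_univ, true_and, Finset.mem_insert,
      Finset.mem_singleton]
    constructor
    · rintro ⟨hu, hdu⟩
      by_cases hup : u = p
      · exact Or.inl hup
      by_cases huq : u = q
      · exact Or.inr (Or.inl huq)
      exact Or.inr (Or.inr (Subtype.ext (huniq u hu (Subtype.coe_ne_coe.mpr hup) (Subtype.coe_ne_coe.mpr huq) hdu)))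
    · rintro (rfl | rfl | rfl)
      exacts [hp, hq, ⟨hs, hds⟩]
  obtain ⟨p, hp⟩ := meet_all T P hP2 hP3 (blk E (⟨ε, hεB⟩ : B) ⟨h1, h1B⟩ ⟨h2, h2B⟩)
    (mem_blks.mpr ⟨_, _, _, fun e => n1ε (congrArg Subtype.val e).symm, fun e => n2ε (congrArg Subtype.val e).symm,
      fun e => n21 (congrArg Subtype.val e).symm, rfl⟩)
  simp only [Finset.mem_inter, mem_blk, P, Finset.mem_filter, Finset.mem_univ, true_and] at hp
  have hm := c.mem (p : Q) (hB.sub p.2)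
  refine hno (l p) ⟨⟨fun e => hdb (e ▸ hR.symm hm.2), hp.2⟩, hm⟩ ?_
  rw [← eξ]
  exact (c.comm ξ hξ _ (hB.sub p.2)).mpr (hp.1.2 ξ ⟨hξ, hξε.2.2, hξh1.symm, hξh2.symm⟩).symm

include hR S hch in
/-- a component has diameter at most two -/
theorem diameter {a b : V} (h : Relation.ReflTransGen R a b) : R a b ∨ (nb R a ∩ nb R b).Nonempty := by
  induction h with
  | refl => exact Or.inl (hR.refl a)
  | @tail b c _ hbc ih =>
    by_cases hcb : c = b
    · exact hcb ▸ ih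
    by_cases hac : R a c
    · exact Or.inl hac
    have hne : ∀ {y}, R a y → y ≠ a → y ≠ c → R c y → (nb R a ∩ nb R c).Nonempty := fun h1 h2 h3 h4 =>
      ⟨_, ⟨h2, h1⟩, h3, h4⟩
    have hcx : c ∈ nb R b := ⟨hcb, hbc⟩
    by_cases hab : R a b
    · by_cases hba : b = a
      · exact absurd (hba ▸ hbc) hac
      · exact Or.inr (hne hab hba (Ne.symm hcb) (hR.symm hbc))
    · obtain ⟨p, hp, hcp⟩ := near_step hR S hch hab (ih.resolve_left hab) hcx
      refine Or.inr (hne hp.1.2 hp.1.1 (fun e => hac ?_) hcp)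
      exact e ▸ hp.1.2

end Cfsg.Agent.Lib.Fi24Recog30
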