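import Cfsg.Agent.Lib.Fi24Recog30.Dense
import Cfsg.Agent.Lib.FischerMTypes90.BaseLifts
import Cfsg.Agent.Lib.FischerMTypes90.Bases
import Cfsg.Agent.Lib.FischerMTypes90.Sect

/-!
The quasisimple part of the centraliser of a pair as a double cover of Fi22, and the base of the
transpositions in the image of the Thompson subgroup.
-/

set_option autoImplicit false
set_option linter.style.haveILetI false
set_option linter.unusedSectionVars false

namespace Cfsg.Agent.Lib.Fi24Recog30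

open Cfsg Cfsg.Agent.Lib.LargeFischer13 Cfsg.Agent.Lib.FischerLarge75
open Cfsg.Agent.Lib.FischerMTypes90 (Cover Sect)
open Cfsg.Agent.Lib.FischerMTypes.Syl22 (IsBase)
open Cfsg.Agent.Lib.FischerMTypes.TraceCounts (Sys)

universe u

/-- the part of index two in the centraliser of an involution, a perfect double cover of `Q` -/
structure Cen (G : Type u) [Group G] (Q : Type*) [Group Q] where
  t : G
  K : Subgroup G
  π : ↥K →* Q
  tK : t ∈ K
  cover : Cover π ⟨t, tK⟩
  qs : Cfsg.IsQuasisimple ↥K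
  le : ∀ g ∈ K, Commute g t
  nor : ∀ g, Commute g t → ∀ k ∈ K, g * k * g⁻¹ ∈ K
  two : ∀ g h, Commute g t → Commute h t → g ∉ K → h ∉ K → g * h ∈ K
  full : ∀ β : Q ≃* Q, ∃ (g : G) (hg : Commute g t),
    ∀ k : ↥K, π ⟨g * k * g⁻¹, nor g hg k k.2⟩ = β (π k)

namespace Cen

variable {G : Type u} [Group G] {Q : Type*} [Group Q] (C : Cen G Q)

theorem sq : C.t * C.t = 1 := congrArg Subtype.val C.cover.sq

theorem ne : C.t ≠ 1 := fun h => C.cover.ne (Subtype.ext h)

theorem sq_mem {g : G} (hg : Commute g C.t) : g * g ∈ C.K := by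
  by_cases h : g ∈ C.K
  · exact mul_mem h h
  · exact C.two g g hg hg h h

theorem even_pow_mem {g : G} (hg : Commute g C.t) {n : ℕ} (hn : Even n) : g ^ n ∈ C.K := by
  obtain ⟨k, rfl⟩ := hn
  rw [← two_mul, pow_mul, pow_two]
  exact pow_mem (C.sq_mem hg) k

end Cen

variable {G : Type u} [Group G] [Finite G] {z : G} {Q : Subgroup (Cz z)} [Q.Normal]

set_option maxHeartbeats 1000000 in
/-- the setting at a pair in `Q` -/
theorem exists_cen (h5450 : PairCentraliser.{u}) (hF : Cfsg.IsOfLargeFischerTypeAt z Q) (F : Frame z Q)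
    {p q : GolayPt} (hpq : p ≠ q) (htQ : ∃ h : F.P.tt p q ∈ Cz z, (⟨_, h⟩ : Cz z) ∈ Q) :
    ∃ C : Cen G Cfsg.Spor.Fi22, C.t = F.P.tt p q ∧ F.A ≤ C.K := by
  obtain ⟨hSfin, hSsimple, hS⟩ := fi22_facts
  haveI := hSfin
  haveI := hSsimple
  set t := F.P.tt p q with ht
  have htA : t ∈ F.A := F.tt_mem hpq
  have htne := (F.P.mem p q hpq).2
  have ht2 : orderOf t = 2 := orderOf_eq_prime (by rw [pow_two, F.sq htA]) htne.1
  haveI := normal_zpowers t
  set C := Subgroup.centralizer ({t} : Set G) with hC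
  set K := Cfsg.generalizedFittingSubgroup ↥C with hK
  obtain ⟨hKq, hKidx, ⟨htC, htK⟩, ⟨e⟩⟩ := h5450 z Q hF t htQ ht2 htne.2 K rfl
  haveI : K.Normal := Subgroup.normal_of_index_eq_two hKidx
  let π : C →* MulAut Cfsg.Spor.Fi22 :=
    e.toMonoidHom.comp (QuotientGroup.mk' ((Subgroup.zpowers t).subgroupOf C))
  have hπ : Function.Surjective π := e.surjective.comp (QuotientGroup.mk'_surjective _)
  have hπker : π.ker = (Subgroup.zpowers t).subgroupOf C := by
    ext x
    show e (QuotientGroup.mk' _ x) = 1 ↔ _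
    rw [map_eq_one_iff _ e.injective, QuotientGroup.mk'_apply, QuotientGroup.eq_one_iff]
  have hcommC : ∀ {g : G}, g ∈ C → Commute g t := fun hg => Subgroup.mem_centralizer_singleton_iff.1 hg
  have hcentral : π.ker ≤ Subgroup.center C := by
    intro c hc
    rw [hπker] at hc
    obtain ⟨n, hn⟩ := Subgroup.mem_zpowers_iff.1 (Subgroup.mem_subgroupOf.1 hc)
    refine Subgroup.mem_center_iff.2 fun x => Subtype.ext ?_
    show (x : G) * (c : G) = (c : G) * x
    rw [← hn]
    exact ((hcommC x.2).zpow_right n).eq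
  have himg := map_eq_inn hS hKq π hπ hcentral
  have hinj := conj_injective hS
  set Kg := K.map C.subtype with hKg
  let ε : ↥K ≃* ↥Kg := K.equivMapOfInjective C.subtype Subtype.val_injective
  have hεv : ∀ x : Kg, ((ε.symm x : C) : G) = (x : G) := fun x => by
    obtain ⟨y, rfl⟩ := ε.surjective x
    rw [MulEquiv.symm_apply_apply]
    rfl
  let φ : ↥Kg →* (MulAut.conj : Cfsg.Spor.Fi22 →* MulAut Cfsg.Spor.Fi22).range :=
    ((π.comp K.subtype).comp ε.symm.toMonoidHom).codRestrict _ fun x => himg.le ⟨_, (ε.symm x).2, rfl⟩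
  let ψ : ↥Kg →* Cfsg.Spor.Fi22 := (MonoidHom.ofInjective hinj).symm.toMonoidHom.comp φ
  have hψ1 : ∀ x, ψ x = 1 ↔ (x : G) ∈ Subgroup.zpowers t := fun x => by
    show (MonoidHom.ofInjective hinj).symm (φ x) = 1 ↔ _
    rw [map_eq_one_iff _ (MulEquiv.injective _), Subtype.ext_iff]
    show π (ε.symm x : C) = 1 ↔ _
    rw [← MonoidHom.mem_ker, hπker, Subgroup.mem_subgroupOf, hεv]
  have hmemK : ∀ {g : G} (hg : g ∈ C), g ∈ Kg ↔ (⟨g, hg⟩ : C) ∈ K := fun {g} hg =>
    ⟨fun ⟨y, hy, ey⟩ => by rwa [show (⟨g, hg⟩ : C) = y from Subtype.ext ey.symm], fun h => ⟨_, h, rfl⟩⟩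
  have hmemC : ∀ {g : G}, Commute g t → g ∈ C := fun hg => Subgroup.mem_centralizer_singleton_iff.2 hg.eq
  refine ⟨⟨t, Kg, ψ, (hmemK htC).2 htK, ?_, Components.Quasisimple.of_mulEquiv hKq ε,
    fun g ⟨y, _, e⟩ => e ▸ hcommC y.2, ?_, ?_, ?_⟩, rfl, ?_⟩
  · refine ⟨fun s => ?_, fun x hx => ?_, (hψ1 _).2 (Subgroup.mem_zpowers t), Subtype.ext (F.sq htA),
      fun h => htne.1 (congrArg Subtype.val h), fun y => Subtype.ext ?_⟩
    · obtain ⟨k, hk, ek⟩ := himg.ge ⟨s, rfl⟩
      refine ⟨ε ⟨k, hk⟩, (MonoidHom.ofInjective hinj).injective ?_⟩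
      show MonoidHom.ofInjective hinj ((MonoidHom.ofInjective hinj).symm (φ (ε ⟨k, hk⟩))) = _
      rw [MulEquiv.apply_symm_apply]
      refine Subtype.ext ?_
      show π (ε.symm (ε ⟨k, hk⟩) : C) = MulAut.conj s
      rw [MulEquiv.symm_apply_apply, ← ek]
    · obtain ⟨n, hn⟩ := Subgroup.mem_zpowers_iff.1 ((hψ1 x).1 hx)
      have h2 : t ^ (2 : ℤ) = 1 := by rw [zpow_two, F.sq htA]
      rcases Int.even_or_odd' n with ⟨m, rfl | rfl⟩
      · exact Or.inl (Subtype.ext (by rw [← hn, zpow_mul, h2, one_zpow]; rfl))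
      · exact Or.inr (Subtype.ext (by rw [← hn, zpow_add_one, zpow_mul, h2, one_zpow, one_mul]))
    · obtain ⟨w, -, e⟩ := y.2
      show t * (y : G) = (y : G) * t
      rw [← e]
      exact (hcommC w.2).eq.symm
  · intro g hg k hk
    obtain ⟨y, hy, rfl⟩ := hk
    exact ⟨_, (inferInstance : K.Normal).conj_mem y hy ⟨g, hmemC hg⟩, by simp⟩
  · intro g h hg hh hgK hhK
    rw [hmemK (hmemC hg)] at hgK
    rw [hmemK (hmemC hh)] at hhK
    rw [hmemK (mul_mem (hmemC hg) (hmemC hh))]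
    exact (Subgroup.mul_mem_iff_of_index_two hKidx (a := (⟨g, hmemC hg⟩ : C)) (b := ⟨h, hmemC hh⟩)).2
      (iff_of_false hgK hhK)
  · intro β
    obtain ⟨c, hc⟩ := hπ β
    refine ⟨(c : G), hcommC c.2, fun k => hinj ?_⟩
    have hψ : ∀ x : ↥Kg, MulAut.conj (ψ x) = π (ε.symm x : C) := fun x => by
      show MulAut.conj ((MonoidHom.ofInjective hinj).symm (φ x)) = _
      exact congrArg Subtype.val ((MonoidHom.ofInjective hinj).apply_symm_apply (φ x))
    have hβ : ∀ s, MulAut.conj (β s) = β * MulAut.conj s * β⁻¹ := fun s => by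
      ext x; simp [MulAut.conj_apply, map_mul, map_inv]
    rw [hβ, hψ, hψ, ← hc, ← map_inv π c, ← map_mul π, ← map_mul π]
    congr 1
    refine Subtype.ext ?_
    push_cast
    rw [hεv, hεv]
  · exact A_le F hpq K hKidx ⟨htC, htK⟩

variable {Y : Type*} [Group Y] [Finite Y] {E : Set Y} {K : Type} [Field K] [Fintype K]

/-- an elementary abelian subgroup of order 1024 is generated by the transpositions it contains -/
theorem base_of_elementary (S : Sys E K) (U : Subgroup Y) (hab : ∀ x ∈ U, ∀ y ∈ U, Commute x y)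
    (hsq : ∀ x ∈ U, x * x = 1) (hcard : Nat.card U = 1024) :
    IsBase E {x | x ∈ E ∧ x ∈ U} := by
  haveI : Fact (Nat.Prime 2) := ⟨Nat.prime_two⟩
  obtain ⟨T, hT⟩ := (IsPGroup.of_card (p := 2) (n := 10) (G := U) (by rw [hcard]; norm_num)).exists_le_sylow
  have hB := FischerMTypes.Syl22.sylow_base S T
  set B := {x : Y | x ∈ E ∧ x ∈ (T : Subgroup Y)} with hBdef
  rcases FischerMTypes.Syl22.eq_or_lt S hB U hab hsq (fun g hg y hy =>
      ⟨S.hD.2.1 g y hy.1, mul_mem (mul_mem (hT hg) hy.2) (inv_mem (hT hg))⟩) with h | h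
  · have e : U = Subgroup.closure B := Subgroup.eq_of_le_of_card_ge h
      (by rw [FischerMTypes90.card_closure_base S hB, hcard])
    have : {x | x ∈ E ∧ x ∈ U} = B := Set.ext fun x =>
      ⟨fun hx => ⟨hx.1, hT hx.2⟩, fun hx => ⟨hx.1, e ▸ Subgroup.subset_closure hx⟩⟩
    rw [this]
    exact hB
  · rw [FischerMTypes90.card_closure_base S hB, hcard] at h
    exact absurd h (lt_irrefl _)

end Cfsg.Agent.Lib.Fi24Recog30
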