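import Cfsg.Agent.Lib.Fi24Recog30.Top
import Cfsg.Agent.Lib.Fi24Recog30.Counting

/-!
At a pair in `Q`: the transpositions in the image of the Thompson subgroup are the twenty-two pairs
at one end, and these lift to one side.
-/

set_option autoImplicit false
set_option linter.style.haveILetI false
set_option linter.unusedSectionVars false

namespace Cfsg.Agent.Lib.Fi24Recog30

open Cfsg Cfsg.Agent.Lib.LargeFischer13 Cfsg.Agent.Lib.FischerLarge75
open Cfsg.Agent.Lib.FischerMTypes90 (Cover Sect exists_sect bases_conj exists_base_of_clique)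
open Cfsg.Agent.Lib.FischerMTypes.Syl22 (IsBase)
open Cfsg.Agent.Lib.FischerMTypes.TraceCounts (Sys)

universe u

variable {G : Type u} [Group G] [Finite G] {z : G} {Q : Subgroup (Cz z)} [Q.Normal]
variable {E : Set Cfsg.Spor.Fi22} {K : Type} [Field K] [Fintype K]
variable (F : Frame z Q) {p q : GolayPt} (C : Cen G Cfsg.Spor.Fi22)

/-- a pair at the end `p`, as a member of the centraliser part -/
noncomputable def endK (hA : F.A ≤ C.K) (p s : GolayPt) : ↥C.K :=
  if h : p ≠ s then ⟨F.P.tt p s, hA (F.tt_mem h)⟩ else 1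

variable {F C}

theorem endK_coe (hA : F.A ≤ C.K) {p s : GolayPt} (h : p ≠ s) : ((endK F C hA p s : ↥C.K) : G) = F.P.tt p s := by
  rw [endK, dif_pos h]

theorem conj_endK (hA : F.A ≤ C.K) {p s : GolayPt} (h : p ≠ s) {n : Subgroup.normalizer (F.A : Set G)}
    (hn : (n : G) ∈ C.K) (hp : F.P.φ n p = p) :
    (⟨n, hn⟩ : ↥C.K) * endK F C hA p s * (⟨n, hn⟩ : ↥C.K)⁻¹ = endK F C hA p (F.P.φ n s) := by
  refine Subtype.ext ?_
  have h' : p ≠ F.P.φ n s := fun e => h ((F.P.φ n).injective (hp.trans e))
  rw [endK_coe hA h']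
  show (n : G) * (endK F C hA p s : G) * (n : G)⁻¹ = _
  rw [endK_coe hA h, F.P.equiv, hp]

/-- an element in the centraliser part over a permutation of odd prime order fixing the pair -/
theorem exists_over (hpq : p ≠ q) (ht : C.t = F.P.tt p q) {σ : Equiv.Perm GolayPt} {P : ℕ} (hσ : σ ∈ M24)
    (hP : Odd P) (hσP : σ ^ P = 1) (hp : σ p = p) (hq : σ q = q) :
    ∃ n : Subgroup.normalizer (F.A : Set G), (n : G) ∈ C.K ∧ F.P.φ n = σ := by
  refine ⟨F.lift hσ ^ (P + 1), ?_, by rw [map_pow, F.φ_lift, pow_succ, hσP, one_mul]⟩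
  have hc : Commute ((F.lift hσ : Subgroup.normalizer (F.A : Set G)) : G) C.t := by
    refine mul_inv_eq_iff_eq_mul.1 ?_
    rw [ht, F.P.equiv, F.φ_lift, hp, hq]
  rw [SubgroupClass.coe_pow]
  exact C.even_pow_mem hc hP.add_one

set_option maxHeartbeats 1000000 in
/-- the transpositions in the image of `A` are the pairs at one end -/
theorem base_ends (S : Sys E K) (hpq : p ≠ q) (ht : C.t = F.P.tt p q) (hA : F.A ≤ C.K) :
    IsBase E ((fun s => C.π (endK F C hA p s)) '' {s | s ≠ p ∧ s ≠ q}) := by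
  classical
  haveI := fi22_facts.1
  set U := (F.A.subgroupOf C.K).map C.π with hU
  have hU_iff : ∀ x : ↥C.K, C.π x ∈ U ↔ (x : G) ∈ F.A := fun x => by
    refine ⟨fun ⟨y, hy, e⟩ => ?_, fun h => ⟨x, h, rfl⟩⟩
    have hy' : (y : G) ∈ F.A := hy
    rcases C.cover.eq_or y x e.symm with h | h <;> rw [h]
    · exact hy'
    · exact mul_mem (show C.t ∈ F.A by rw [ht]; exact F.tt_mem hpq) hy'
  have hab : ∀ x ∈ U, ∀ y ∈ U, Commute x y := by
    rintro _ ⟨x, hx, rfl⟩ _ ⟨y, hy, rfl⟩
    exact (show Commute x y from Subtype.ext (F.comm hx hy)).map C.π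
  have hsq : ∀ x ∈ U, x * x = 1 := by
    rintro _ ⟨x, hx, rfl⟩
    rw [← map_mul, show x * x = 1 from Subtype.ext (F.sq hx), map_one]
  have hcard : Nat.card U = 1024 := by
    have h1 := C.cover.ncard_preimage (U : Set Cfsg.Spor.Fi22)
    have e : {x : ↥C.K | C.π x ∈ (U : Set Cfsg.Spor.Fi22)} = (F.A.subgroupOf C.K : Set ↥C.K) :=
      Set.ext fun x => hU_iff x
    rw [e, ← Nat.card_coe_set_eq, ← Nat.card_coe_set_eq] at h1
    have h2 : Nat.card ↥(F.A.subgroupOf C.K) = 2048 := by
      rw [Nat.card_congr (Subgroup.subgroupOfEquivOfLe hA).toEquiv, F.card]; norm_num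
    change Nat.card ↥(F.A.subgroupOf C.K) = 2 * Nat.card U at h1
    omega
  have hB := base_of_elementary S U hab hsq hcard
  set B := {x | x ∈ E ∧ x ∈ U} with hBdef
  set b : GolayPt → Cfsg.Spor.Fi22 := fun s => C.π (endK F C hA p s)
  let W : Finset Cfsg.Spor.Fi22 :=
    (Set.toFinite B).toFinset.filter fun x => ∀ s, s ≠ p → s ≠ q → x ≠ b s
  have hWmem : ∀ x, x ∈ W ↔ x ∈ B ∧ ∀ s, s ≠ p → s ≠ q → x ≠ b s := fun x => by simp [W]
  -- an element of order seven or eleven fixes none of the others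
  have hmod : ∀ {P : ℕ} {σ : Equiv.Perm GolayPt}, P.Prime → (P = 7 ∨ P = 11) → σ ∈ M24 → σ ≠ 1 → σ ^ P = 1 →
      σ p = p → σ q = q → ∀ r, (∀ x, σ x = x → x = p ∨ x = q ∨ x = r) → W.card % P = 0 := by
    intro P σ hP hP' hσ hσ1 hσP hp hq r hfix
    have hodd : Odd P := by rcases hP' with rfl | rfl <;> decide
    obtain ⟨n, hnK, hφ⟩ := exists_over hpq ht hσ hodd hσP hp hq
    set k : ↥C.K := ⟨n, hnK⟩
    set f : Cfsg.Spor.Fi22 → Cfsg.Spor.Fi22 := fun x => C.π k * x * (C.π k)⁻¹ with hf
    have hfb : ∀ s, s ≠ p → f (b s) = b (σ s) := fun s hs => by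
      simp only [hf, b, ← map_mul, ← map_inv]
      rw [conj_endK hA (Ne.symm hs) hnK (by rw [hφ, hp]), hφ]
    have hfU : ∀ x ∈ U, f x ∈ U := by
      rintro _ ⟨y, hy, rfl⟩
      simp only [hf, ← map_mul, ← map_inv]
      exact (hU_iff _).2 (F.conj_A n hy)
    have hfW : ∀ x ∈ W, f x ∈ W := fun x hx => by
      rw [hWmem] at hx ⊢
      refine ⟨⟨S.hD.2.1 _ x hx.1.1, hfU x hx.1.2⟩, fun s hsp hsq e => ?_⟩
      have h1 : σ (σ⁻¹ s) = s := by simp
      have nsp : σ⁻¹ s ≠ p := fun h => hsp (by rw [← h1, h, hp])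
      have nsq : σ⁻¹ s ≠ q := fun h => hsq (by rw [← h1, h, hq])
      refine hx.2 _ nsp nsq ?_
      rw [← h1, ← hfb _ nsp] at e
      simpa [hf] using e
    have hiter : ∀ m x, f^[m] x = C.π (k ^ m) * x * (C.π (k ^ m))⁻¹ := by
      intro m
      induction m with
      | zero => intro x; simp
      | succ m ih =>
        intro x
        rw [Function.iterate_succ_apply', ih, pow_succ']
        simp only [hf, map_mul, mul_inv_rev]
        group
    have hkP : ((k ^ P : ↥C.K) : G) ∈ F.A := by
      have h := F.φ_eq_one.1 (show F.P.φ (n ^ P) = 1 by rw [map_pow, hφ, hσP])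
      simpa [k] using h
    have hfP : ∀ x ∈ W, f^[P] x = x := fun x hx => by
      rw [hiter, ((hab _ ((hU_iff _).2 hkP) x ((hWmem x).1 hx).1.2)).eq, mul_inv_cancel_right]
    have h := card_modEq_fixed hP f W hfW hfP
    rw [Nat.ModEq] at h
    rw [h, Finset.filter_eq_empty_iff.2 fun x hx hxf => ?_, Finset.card_empty, Nat.zero_mod]
    obtain ⟨⟨hxE, y, hy, rfl⟩, hxb⟩ := (hWmem x).1 hx
    have hy' : (y : G) ∈ F.A := hy
    have hxf' : C.π (k * y * k⁻¹) = C.π y := by simpa [hf] using hxf
    have hfixy : (n : G) * (y : G) * (n : G)⁻¹ = (y : G) := by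
      rcases C.cover.eq_or _ _ hxf' with e | e
      · exact congrArg Subtype.val e
      · exfalso
        have e' : (n : G) * (y : G) * (n : G)⁻¹ = C.t * (y : G) := congrArg Subtype.val e
        have hpow : ∀ m, ((n ^ m : Subgroup.normalizer (F.A : Set G)) : G) * (y : G) *
            ((n ^ m : Subgroup.normalizer (F.A : Set G)) : G)⁻¹ = C.t ^ m * (y : G) := by
          intro m
          induction m with
          | zero => simp
          | succ m ih =>
            have hc : Commute (n : G) (C.t ^ m) := (C.le _ hnK).pow_right m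
            rw [pow_succ']
            calc ((n * n ^ m : Subgroup.normalizer (F.A : Set G)) : G) * (y : G) * _
                = (n : G) * (((n ^ m : Subgroup.normalizer (F.A : Set G)) : G) * (y : G) *
                    ((n ^ m : Subgroup.normalizer (F.A : Set G)) : G)⁻¹) * (n : G)⁻¹ := by push_cast; group
              _ = (n : G) * C.t ^ m * (y : G) * (n : G)⁻¹ := by rw [ih]; group
              _ = C.t ^ m * ((n : G) * (y : G) * (n : G)⁻¹) := by rw [hc.eq]; group
              _ = _ := by rw [e', pow_succ]; group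
        have h1 := hpow P
        rw [F.conj_eq (m' := 1) (by rw [map_pow, hφ, hσP, map_one]) hy'] at h1
        simp only [Subgroup.coe_one, one_mul, inv_one, mul_one] at h1
        obtain ⟨m, rfl⟩ := hodd
        rw [pow_succ, pow_mul, pow_two, C.sq, one_pow, one_mul] at h1
        exact C.ne (mul_eq_right.1 h1.symm)
    have hy1 : (y : G) ≠ 1 := fun e => by
      rw [show y = 1 from Subtype.ext e, map_one] at hxE
      have := S.hD.1.1 1 hxE
      rw [orderOf_one] at this
      omega
    obtain ⟨a, c, hac, eac, hi⟩ := F.fixed_pair hφ hσ1 hσP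
      (by rcases hP' with rfl | rfl <;> simp) hy' hy1 hfixy
    obtain ⟨ha, hc⟩ : σ a = a ∧ σ c = c := by
      rcases hi with h' | ⟨h1, h2⟩
      · exact h'
      · exfalso
        obtain ⟨m, rfl⟩ := hodd
        have h2' : ∀ j, (σ ^ (2 * j)) a = a := by
          intro j
          induction j with
          | zero => simp
          | succ j ih => rw [mul_add, mul_one, pow_add, Equiv.Perm.mul_apply, pow_two, Equiv.Perm.mul_apply, h1, h2, ih]
        have := congrArg (fun π : Equiv.Perm GolayPt => π a) hσP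
        simp only [pow_succ', Equiv.Perm.mul_apply, h2', Equiv.Perm.one_apply] at this
        exact hac (this.symm.trans h1)
    -- the pair is the central one or lies at the end
    have hone : ∀ v, v ≠ p → v ≠ q → (y : G) ≠ F.P.tt p v := fun v hvp hvq e =>
      hxb v hvp hvq (congrArg C.π (Subtype.ext (e.trans (endK_coe hA (Ne.symm hvp)).symm)))
    have hone' : ∀ v, v ≠ p → v ≠ q → (y : G) ≠ F.P.tt q v := fun v hvp hvq e => by
      refine hxb v hvp hvq ?_
      have h1 : C.t * (y : G) = F.P.tt p v := by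
        rw [ht, e, F.triangle hpq (Ne.symm hvq) (Ne.symm hvp)]
      have h2 : (⟨C.t, C.tK⟩ : ↥C.K) * y = endK F C hA p v :=
        Subtype.ext (h1.trans (endK_coe hA (Ne.symm hvp)).symm)
      show C.π y = C.π _
      rw [← h2, map_mul, C.cover.one, one_mul]
    have hnt : (y : G) ≠ F.P.tt p q := fun e => by
      rw [← ht] at e
      rw [show y = ⟨C.t, C.tK⟩ from Subtype.ext e, C.cover.one] at hxE
      have := S.hD.1.1 1 hxE
      rw [orderOf_one] at this
      omega
    have key : ∀ u v, (y : G) = F.P.tt u v → u = p ∨ u = q → v ≠ u → σ v = v → False := by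
      intro u v e hu hvu hv
      rcases hfix v hv with rfl | rfl | rfl
      · rcases hu with rfl | rfl
        · exact hvu rfl
        · exact hnt (e.trans (F.P.symm _ _))
      · rcases hu with rfl | rfl
        · exact hnt e
        · exact hvu rfl
      · by_cases hrp : v = p
        · subst hrp
          rcases hu with rfl | rfl
          · exact hvu rfl
          · exact hnt (e.trans (F.P.symm _ _))
        by_cases hrq : v = q
        · subst hrq
          rcases hu with rfl | rfl
          · exact hnt e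
          · exact hvu rfl
        rcases hu with rfl | rfl
        · exact hone v hrp hrq e
        · exact hone' v hrp hrq e
    rcases hfix a ha with h' | h' | h'
    · exact key a c eac (Or.inl h') (Ne.symm hac) hc
    · exact key a c eac (Or.inr h') (Ne.symm hac) hc
    · refine key c a (eac.trans (F.P.symm _ _)) ?_ hac ha
      rcases hfix c hc with h'' | h'' | h''
      · exact Or.inl h''
      · exact Or.inr h''
      · exact absurd (h'.trans h''.symm) hac
  obtain ⟨⟨σ, m1, m2, m3, m4, m5, m6⟩, ⟨τ, k1, k2, k3, k4, k5, r, k6⟩⟩ := exists_eleven_seven hpq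
  have h11 := hmod (by norm_num) (Or.inr rfl) m1 m2 m3 m4 m5 p
    (fun x hx => (m6 x hx).imp_right Or.inl)
  have h7 := hmod (by norm_num) (Or.inl rfl) k1 k2 k3 k4 k5 r k6
  have hW22 : W.card ≤ 22 := by
    rw [← hB.card, Set.ncard_eq_toFinset_card B]
    exact Finset.card_filter_le _ _
  have hW0 : W.card = 0 := by omega
  have hsub : B ⊆ b '' {s | s ≠ p ∧ s ≠ q} := fun x hx => by
    by_contra h
    have : x ∈ W := (hWmem x).2 ⟨hx, fun s h1 h2 e => h ⟨s, ⟨h1, h2⟩, e.symm⟩⟩
    rw [Finset.card_eq_zero.1 hW0] at this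
    exact Finset.notMem_empty x this
  have h22 : ({s | s ≠ p ∧ s ≠ q} : Set GolayPt).ncard = 22 := by
    rw [show ({s | s ≠ p ∧ s ≠ q} : Set GolayPt) = ({p, q} : Set GolayPt)ᶜ by ext; simp,
      Set.ncard_compl, Set.ncard_pair hpq]
    simp [GolayPt]
  rw [← Set.eq_of_subset_of_ncard_le hsub ((Set.ncard_image_le (Set.toFinite _)).trans (by rw [h22, hB.card]))
    (Set.toFinite _)]
  exact hB

end Cfsg.Agent.Lib.Fi24Recog30
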