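import Cfsg.Agent.Lib.Fi24Recog30.Side

/-!
At a pair in `Q`: the side of the pairs at one end, its exchange with the other, and its edges.
-/

set_option autoImplicit false
set_option linter.style.haveILetI false
set_option linter.unusedSectionVars false

namespace Cfsg.Agent.Lib.Fi24Recog30

open Cfsg Cfsg.Agent.Lib.LargeFischer13 Cfsg.Agent.Lib.FischerLarge75
open Cfsg.Agent.Lib.FischerMTypes90 (Cover Sect exists_sect bases_conj exists_base_of_clique)
open Cfsg.Agent.Lib.FischerMTypes.Syl22 (IsBase)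
open Cfsg.Agent.Lib.FischerMTypes.TraceCounts (Sys)

universe u

variable {G : Type u} [Group G] [Finite G] {z : G} {Q : Subgroup (Cz z)} [Q.Normal]
variable {E : Set Cfsg.Spor.Fi22} {K : Type} [Field K] [Fintype K]
variable {F : Frame z Q} {p q : GolayPt} {C : Cen G Cfsg.Spor.Fi22}

theorem exists_other (p q : GolayPt) : ∃ s, s ≠ p ∧ s ≠ q := by
  obtain ⟨x, h1, h2, -⟩ := avoid p q q
  exact ⟨x, h1, h2⟩

/-- the lifts of the pairs at one end form one class -/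
theorem exists_sect_ends (S : Sys E K) (hpq : p ≠ q) (ht : C.t = F.P.tt p q) (hA : F.A ≤ C.K) :
    ∃ L : Cfsg.Spor.Fi22 → ↥C.K, Sect E C.π L ∧
      ∀ s, s ≠ p → s ≠ q → L (C.π (endK F C hA p s)) = endK F C hA p s := by
  classical
  haveI := fi22_facts.1
  have hB := base_ends S hpq ht hA
  obtain ⟨s₀, h01, h02⟩ := exists_other p q
  have hbE : ∀ s, s ≠ p → s ≠ q → C.π (endK F C hA p s) ∈ E := fun s h1 h2 => hB.sub ⟨s, ⟨h1, h2⟩, rfl⟩
  obtain ⟨L, hL, hL0⟩ := exists_sect S C.cover (A₀ := endK F C hA p s₀) (hbE s₀ h01 h02)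
  let U : Finset GolayPt := Finset.univ.filter fun s =>
    s ≠ p ∧ s ≠ q ∧ L (C.π (endK F C hA p s)) = endK F C hA p s
  have hmem : ∀ s, s ∈ U ↔ s ≠ p ∧ s ≠ q ∧ L (C.π (endK F C hA p s)) = endK F C hA p s := fun s => by simp [U]
  have hmod : ∀ {P : ℕ} {σ : Equiv.Perm GolayPt}, P.Prime → Odd P → σ ∈ M24 → σ ^ P = 1 → σ p = p → σ q = q →
      U.card % P = (U.filter fun x => σ x = x).card % P := by
    intro P σ hP hodd hσ hσP hp hq
    obtain ⟨n, hnK, hφ⟩ := exists_over hpq ht hσ hodd hσP hp hq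
    refine card_modEq_fixed hP σ U (fun s hs => ?_) fun s _ => ?_
    · rw [hmem] at hs ⊢
      obtain ⟨h1, h2, h3⟩ := hs
      refine ⟨fun e => h1 (σ.injective (e.trans hp.symm)), fun e => h2 (σ.injective (e.trans hq.symm)), ?_⟩
      rw [← hφ, ← conj_endK hA (Ne.symm h1) hnK (by rw [hφ, hp]), map_mul, map_mul, map_inv,
        ← hL.conj _ (hbE s h1 h2), h3]
    · rw [← Equiv.Perm.coe_pow, hσP, Equiv.Perm.one_apply]
  obtain ⟨⟨σ, m1, -, m3, m4, m5, m6⟩, ⟨τ, k1, -, k3, k4, k5, r, k6⟩⟩ := exists_eleven_seven hpq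
  have h11 := hmod (by norm_num) (by decide) m1 m3 m4 m5
  rw [Finset.filter_eq_empty_iff.2 fun x hx hxf => ?_, Finset.card_empty] at h11
  swap
  · rcases m6 x hxf with e | e
    · exact ((hmem x).1 hx).1 e
    · exact ((hmem x).1 hx).2.1 e
  have h7 := hmod (by norm_num) (by decide) k1 k3 k4 k5
  have hle1 : (U.filter fun x => τ x = x).card ≤ 1 := by
    refine Finset.card_le_one.2 fun a ha b hb => ?_
    rw [Finset.mem_filter, hmem] at ha hb
    rcases k6 a ha.2 with e | e | e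
    · exact absurd e ha.1.1
    · exact absurd e ha.1.2.1
    rcases k6 b hb.2 with e' | e' | e'
    · exact absurd e' hb.1.1
    · exact absurd e' hb.1.2.1
    exact e.trans e'.symm
  have hpos : 0 < U.card := Finset.card_pos.2 ⟨s₀, (hmem _).2 ⟨h01, h02, hL0⟩⟩
  set V : Finset GolayPt := Finset.univ.filter fun s => s ≠ p ∧ s ≠ q with hV
  have hV22 : V.card = 22 := by
    rw [hV, show (Finset.univ.filter fun s => s ≠ p ∧ s ≠ q) = ({p, q} : Finset GolayPt)ᶜ by ext; simp,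
      Finset.card_compl, Finset.card_pair hpq]
    simp [GolayPt]
  have hUV : U ⊆ V := fun s hs => by
    rw [hmem] at hs
    simp [hV, hs.1, hs.2.1]
  have hU22 : U.card ≤ 22 := hV22 ▸ Finset.card_le_card hUV
  have hU : U.card = 11 ∨ U.card = 22 := by omega
  have heq : U = V := Finset.eq_of_subset_of_card_le hUV (by
    rcases hU with hU | hU
    · rw [hU, Nat.mod_eq_of_lt (show (U.filter fun x => τ x = x).card < 7 by omega)] at h7
      omega
    · omega)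
  exact ⟨L, hL, fun s h1 h2 => ((hmem s).1 (heq ▸ (by simp [hV, h1, h2]))).2.2⟩

set_option maxHeartbeats 1000000 in
/-- the side at a pair in `Q` -/
theorem exists_top (h5450 : PairCentraliser.{u}) (hF : Cfsg.IsOfLargeFischerTypeAt z Q) (S : Sys E K)
    (F : Frame z Q) {p q : GolayPt} (hpq : p ≠ q) (htQ : ∃ h : F.P.tt p q ∈ Cz z, (⟨_, h⟩ : Cz z) ∈ Q) :
    ∃ T : Top G Cfsg.Spor.Fi22 E, T.t = F.P.tt p q ∧ F.A ≤ T.K ∧
      ∀ s, s ≠ p → s ≠ q → F.P.tt p s ∈ T.side := by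
  classical
  haveI := fi22_facts.1
  obtain ⟨C, ht, hA⟩ := exists_cen h5450 hF F hpq htQ
  obtain ⟨L, hL, hends⟩ := exists_sect_ends S hpq ht hA
  have hB := base_ends S hpq ht hA
  have hbE : ∀ s, s ≠ p → s ≠ q → C.π (endK F C hA p s) ∈ E := fun s h1 h2 => hB.sub ⟨s, ⟨h1, h2⟩, rfl⟩
  have hLb : ∀ s, s ≠ p → s ≠ q → (L (C.π (endK F C hA p s)) : G) = F.P.tt p s := fun s h1 h2 => by
    rw [hends s h1 h2, endK_coe hA (Ne.symm h1)]
  set sd := (fun e => (L e : G)) '' E with hsd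
  have hin : ∀ s, s ≠ p → s ≠ q → F.P.tt p s ∈ sd := fun s h1 h2 => ⟨_, hbE s h1 h2, hLb s h1 h2⟩
  have horb : ∀ e ∈ E, ∀ s, s ≠ p → s ≠ q → ∃ k : ↥C.K, (L e : G) = (k : G) * F.P.tt p s * (k : G)⁻¹ := by
    intro e he s h1 h2
    obtain ⟨g, hg⟩ := S.hprim.1 _ (hbE s h1 h2) e he
    obtain ⟨k, rfl⟩ := C.cover.surj g
    refine ⟨k, ?_⟩
    rw [← hg, ← hL.conj _ (hbE s h1 h2), ← hLb s h1 h2]
    rfl
  have hinj : Set.InjOn (fun e => (L e : G)) E := fun e he f hf h => by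
    rw [← hL.proj e he, ← hL.proj f hf, Subtype.ext h]
  obtain ⟨s₀, h01, h02⟩ := exists_other p q
  refine ⟨⟨C, L, hL, S.hD, ?_, ?_⟩, ht, hA, hin⟩
  · obtain ⟨σ, hσ, s1, s2, -, -⟩ : ∃ σ ∈ M24, σ p = q ∧ σ q = p ∧ True ∧ True := by
      obtain ⟨x, hx1, hx2⟩ := exists_other p q
      obtain ⟨y, hy1, hy2, hy3⟩ := avoid p q x
      obtain ⟨σ, hσ, s1, s2, -, -⟩ := exists_four (a := p) (b := q) (c := x) (e := y)
        (a' := q) (b' := p) (c' := x) (e' := y)
        (by simp [hpq, Ne.symm hx1, Ne.symm hx2, Ne.symm hy1, Ne.symm hy2, Ne.symm hy3])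
        (by simp [Ne.symm hpq, Ne.symm hx1, Ne.symm hx2, Ne.symm hy1, Ne.symm hy2, Ne.symm hy3])
      exact ⟨σ, hσ, s1, s2, trivial, trivial⟩
    set m := F.lift hσ with hm
    have hmt : Commute (m : G) C.t := mul_inv_eq_iff_eq_mul.1 (by
      rw [ht, F.P.equiv, hm, F.φ_lift, s1, s2, F.P.symm])
    refine ⟨(m : G), hmt, Set.eq_of_subset_of_ncard_le ?_ ?_ (Set.toFinite _)⟩
    · rintro _ ⟨_, ⟨e, he, rfl⟩, rfl⟩
      obtain ⟨k, hk⟩ := horb e he s₀ h01 h02
      have hσ0p : σ s₀ ≠ p := fun h => h02 (σ.injective (h.trans s2.symm))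
      have hσ0q : σ s₀ ≠ q := fun h => h01 (σ.injective (h.trans s1.symm))
      have h1 : (m : G) * F.P.tt p s₀ * (m : G)⁻¹ = C.t * F.P.tt p (σ s₀) := by
        rw [F.P.equiv, hm, F.φ_lift, s1, ht, F.P.symm p q, F.triangle hpq.symm (Ne.symm hσ0p) (Ne.symm hσ0q)]
      set k' : ↥C.K := ⟨(m : G) * k * (m : G)⁻¹, C.nor _ hmt _ k.2⟩ with hk'
      obtain ⟨f, hf, hf'⟩ := hin _ hσ0p hσ0q
      have hconj := congrArg (fun x : ↥C.K => (x : G)) (hL.conj f hf k')
      simp only [Subgroup.coe_mul, Subgroup.coe_inv] at hconj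
      refine ⟨_, ⟨_, S.hD.2.1 (C.π k') f hf, rfl⟩, ?_⟩
      show C.t * ((L _ : ↥C.K) : G) = (m : G) * (L e : G) * (m : G)⁻¹
      rw [← hconj, show (L f : G) = F.P.tt p (σ s₀) from hf', hk]
      calc C.t * ((k' : G) * F.P.tt p (σ s₀) * (k' : G)⁻¹) = (C.t * (k' : G)) * F.P.tt p (σ s₀) * (k' : G)⁻¹ := by
            simp only [mul_assoc]
        _ = (k' : G) * (C.t * F.P.tt p (σ s₀)) * (k' : G)⁻¹ := by
            rw [← (C.le _ k'.2).eq]; simp only [mul_assoc]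
        _ = _ := by rw [← h1, hk']; group
    · rw [ncard_cs, Set.ncard_image_of_injective _ (mul_right_injective C.t)]
  · intro e he f hf hef hcom
    obtain ⟨B', hB', hsub⟩ := exists_base_of_clique S (X := {e, f})
      (by rintro x (rfl | rfl) <;> assumption)
      (by rintro x (rfl | rfl) y (rfl | rfl) <;> first | exact Commute.refl _ | exact hcom | exact hcom.symm)
    obtain ⟨g, hg⟩ := bases_conj S hB' hB
    obtain ⟨k, rfl⟩ := C.cover.surj g
    obtain ⟨s, ⟨hsp, hsq⟩, hs⟩ := hg e (hsub (by simp))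
    obtain ⟨r, ⟨hrp, hrq⟩, hr⟩ := hg f (hsub (by simp))
    have hsr : s ≠ r := fun h => hef (by
      have e1 : C.π k * e * (C.π k)⁻¹ = C.π k * f * (C.π k)⁻¹ := by rw [← hs, ← hr, h]
      simpa using e1)
    have hLk : ∀ {x u}, x ∈ E → u ≠ p → u ≠ q → C.π (endK F C hA p u) = C.π k * x * (C.π k)⁻¹ →
        (L x : G) = (k : G)⁻¹ * F.P.tt p u * (k : G) := by
      intro x u hx h1 h2 h
      have hc := hL.conj x hx k
      rw [← h, hends u h1 h2] at hc
      rw [← endK_coe hA (Ne.symm h1), ← hc]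
      push_cast
      group
    obtain ⟨σ, hσ, s1, s2, -, -⟩ := exists_four (a := p) (b := q) (c := s) (e := r)
      (a' := p) (b' := s) (c' := q) (e' := r)
      (by simp [hpq, Ne.symm hsp, Ne.symm hsq, Ne.symm hrp, Ne.symm hrq, hsr])
      (by simp [hpq, Ne.symm hsp, hsq, Ne.symm hrp, Ne.symm hrq, hsr])
    set n := F.lift hσ with hn
    have hnu : ∀ u, u ≠ p → u ≠ s → F.P.tt p u ∈ cs (n : G) sd := by
      intro u hup hus
      have h1 : σ (σ⁻¹ u) = u := by simp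
      have hp' : σ⁻¹ u ≠ p := fun h => hup (by rw [← h1, h, s1])
      have hq' : σ⁻¹ u ≠ q := fun h => hus (by rw [← h1, h, s2])
      refine ⟨_, hin _ hp' hq', ?_⟩
      show (n : G) * _ * (n : G)⁻¹ = _
      rw [F.P.equiv, hn, F.φ_lift, s1, h1]
    have hkt : Commute (k : G) C.t := C.le _ k.2
    refine ⟨(k : G)⁻¹ * n, ?_, ?_, ?_⟩
    · rw [hLk he hsp hsq hs, ht]
      calc (k : G)⁻¹ * n * F.P.tt p q * ((k : G)⁻¹ * n)⁻¹ = (k : G)⁻¹ * ((n : G) * F.P.tt p q * (n : G)⁻¹) * k := by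
            group
        _ = _ := by rw [F.P.equiv, hn, F.φ_lift, s1, s2]
    · show C.t ∈ cs ((k : G)⁻¹ * n) sd
      rw [cs_mul, mem_cs, inv_inv, hkt.eq, mul_inv_cancel_right, ht]
      exact hnu q hpq.symm (Ne.symm hsq)
    · show (L f : G) ∈ cs ((k : G)⁻¹ * n) sd
      rw [cs_mul, hLk hf hrp hrq hr, mem_cs, inv_inv]
      rw [show (k : G) * ((k : G)⁻¹ * F.P.tt p r * (k : G)) * (k : G)⁻¹ = F.P.tt p r by group]
      exact hnu r hrp (Ne.symm hsr)

end Cfsg.Agent.Lib.Fi24Recog30
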