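import Cfsg.Agent.Lib.Fi24Recog30.Top
import Cfsg.Agent.Lib.Fi24Recog30.LocalGraph

/-!
States: an involution with one of its sides. Their graph is locally the transpositions of Fi22, so
its components have diameter two and meet every involution at most once.
-/

set_option autoImplicit false
set_option linter.style.haveILetI false
set_option linter.unusedSectionVars false

namespace Cfsg.Agent.Lib.Fi24Recog30

open Cfsg.Agent.Lib.FischerMTypes.Basic Cfsg.Agent.Lib.FischerMTypes.Primitive
open Cfsg.Agent.Lib.FischerMTypes.TraceCounts (Sys)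

universe u v

variable {G : Type u} [Group G] {Y : Type v} [Group Y] {E : Set Y} (T : Top G Y E)

/-- an involution of the class of `T.t` with one of its sides -/
def Top.St : Type u := {v : G × Set G // ∃ g : G, g * T.t * g⁻¹ = v.1 ∧ cs g T.side = v.2}

variable {T}

/-- the involution of a state -/
def Top.St.el (v : T.St) : G := v.1.1

/-- the side of a state -/
def Top.St.sd (v : T.St) : Set G := v.1.2

theorem Top.St.ext {v w : T.St} (h1 : v.el = w.el) (h2 : v.sd = w.sd) : v = w := Subtype.ext (Prod.ext h1 h2)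

instance Top.stAction : MulAction G T.St where
  smul g v := ⟨(g * v.el * g⁻¹, cs g v.sd), by
    obtain ⟨h, h1, h2⟩ := v.2
    refine ⟨g * h, ?_, by rw [cs_mul, h2]; rfl⟩
    show _ = g * v.1.1 * g⁻¹
    rw [← h1]; group⟩
  one_smul v := Top.St.ext (by show 1 * v.el * (1 : G)⁻¹ = v.el; group) (cs_one _)
  mul_smul g h v := Top.St.ext (by show g * h * v.el * (g * h)⁻¹ = g * (h * v.el * h⁻¹) * g⁻¹; group) (cs_mul g h _)

@[simp] theorem Top.St.el_smul (g : G) (v : T.St) : (g • v).el = g * v.el * g⁻¹ := rfl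

theorem Top.St.sd_smul (g : G) (v : T.St) : (g • v).sd = cs g v.sd := rfl

variable (T)

/-- the base state -/
def Top.o : T.St := ⟨(T.t, T.side), 1, by simp, cs_one _⟩

theorem Top.o_el : T.o.el = T.t := rfl

theorem Top.o_sd : T.o.sd = T.side := rfl

/-- two states are adjacent -/
def Top.Adj (v w : T.St) : Prop := w.el ∈ v.sd ∧ v.el ∈ w.sd

/-- equal or adjacent -/
def Top.R (v w : T.St) : Prop := v = w ∨ T.Adj v w

theorem Top.refl_R : Refl T.R := ⟨fun _ => Or.inl rfl, fun h => h.imp Eq.symm And.symm⟩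

variable {T}

theorem Top.exists_smul (v : T.St) : ∃ g : G, g • T.o = v := by
  obtain ⟨g, h1, h2⟩ := v.2
  exact ⟨g, Top.St.ext h1 h2⟩

theorem Top.adj_smul (g : G) (v w : T.St) : T.Adj (g • v) (g • w) ↔ T.Adj v w := by
  simp only [Top.Adj, Top.St.el_smul, Top.St.sd_smul, conj_mem_cs]

theorem Top.R_smul (g : G) {v w : T.St} : T.R (g • v) (g • w) ↔ T.R v w := by
  rw [Top.R, Top.R, T.adj_smul, smul_left_cancel_iff]

theorem Top.el_not_sd (v : T.St) : v.el ∉ v.sd := by
  obtain ⟨g, rfl⟩ := T.exists_smul v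
  rw [Top.St.el_smul, Top.St.sd_smul, conj_mem_cs, T.o_el, T.o_sd]
  exact T.t_not_side

theorem Top.comm_sd {v : T.St} {y : G} (hy : y ∈ v.sd) : Commute y v.el := by
  obtain ⟨g, rfl⟩ := T.exists_smul v
  rw [Top.St.sd_smul] at hy
  obtain ⟨x, hx, rfl⟩ := hy
  rw [Top.St.el_smul, T.o_el]
  exact (T.comm_t hx).map (MulAut.conj g).toMonoidHom

theorem Top.fix_K {k : G} (hk : k ∈ T.K) : k • T.o = T.o :=
  Top.St.ext (by rw [Top.St.el_smul, T.o_el, (T.le k hk).eq, mul_inv_cancel_right]) (T.cs_K hk)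

theorem Top.mem_K_of_fix (hE : E.Nonempty) {g : G} (hg : g • T.o = T.o) : g ∈ T.K :=
  T.stab hE (mul_inv_eq_iff_eq_mul.1 (congrArg Top.St.el hg)) (congrArg Top.St.sd hg)

/-- states on one involution with meeting sides are equal -/
theorem Top.eq_of_meet (hE : E.Nonempty) {v w : T.St} (h : v.el = w.el) {y : G} (hv : y ∈ v.sd) (hw : y ∈ w.sd) :
    v = w := by
  obtain ⟨g, rfl⟩ := T.exists_smul v
  obtain ⟨g', rfl⟩ := T.exists_smul w
  set c := g⁻¹ * g' with hc
  have hg' : g' = g * c := by rw [hc, mul_inv_cancel_left]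
  rw [hg', mul_smul] at h hw ⊢
  simp only [Top.St.el_smul, T.o_el] at h
  have hct : Commute c T.t := mul_inv_eq_iff_eq_mul.1 (mul_left_cancel (mul_right_cancel h)).symm
  rcases T.dich hE hct with ⟨hcK, -⟩ | ⟨-, hsh⟩
  · rw [T.fix_K hcK]
  · exfalso
    rw [Top.St.sd_smul, mem_cs, T.o_sd] at hv
    rw [Top.St.sd_smul, mem_cs, Top.St.sd_smul, T.o_sd, hsh] at hw
    obtain ⟨x, hx, e⟩ := hw
    exact T.not_side_of_shift hx (show (fun x => T.t * x) x ∈ T.side by rw [e]; exact hv)

variable {F : Type} [Field F] [Fintype F] [Finite Y] (S : Sys E F)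

include S in
theorem exists_mate {e : Y} (he : e ∈ E) : ∃ f ∈ E, e ≠ f ∧ Commute e f := by
  obtain ⟨b, hb, -⟩ := FischerMTypes.QuasiM22.exists_perp_noncomm S he
  exact ⟨b, hb.1, Ne.symm hb.2.1, hb.2.2⟩

include S in
theorem exists_nonempty : E.Nonempty := by
  obtain ⟨a, ha, -⟩ := S.hprim.2.1
  exact ⟨a, ha⟩

include S in
/-- every member of the side is the involution of a unique neighbour -/
theorem Top.exists_nbr {e : Y} (he : e ∈ E) :
    ∃ w : T.St, w.el = (T.L e : G) ∧ T.Adj T.o w ∧ ∀ w' : T.St, w'.el = (T.L e : G) → T.t ∈ w'.sd → w' = w := by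
  obtain ⟨f, hf, hef, hc⟩ := exists_mate S he
  obtain ⟨g, h1, h2, -⟩ := T.edge e he f hf hef hc
  refine ⟨g • T.o, h1, ⟨?_, h2⟩, fun w' hw' ht => T.eq_of_meet (exists_nonempty S) (hw'.trans h1.symm) ht h2⟩
  rw [Top.St.el_smul, T.o_el, h1, T.o_sd]
  exact T.mem_side he

include S in
/-- the chart at the base state -/
theorem Top.exists_chart_o : ∃ l, GChart T.R E T.o l ∧ ∀ e ∈ E, (l e).el = (T.L e : G) := by
  classical
  have hne := exists_nonempty S
  let l : Y → T.St := fun e => if h : e ∈ E then (T.exists_nbr S h).choose else T.o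
  have hl : ∀ {e}, e ∈ E → (l e).el = (T.L e : G) ∧ T.Adj T.o (l e) ∧
      ∀ w' : T.St, w'.el = (T.L e : G) → T.t ∈ w'.sd → w' = l e := fun {e} h => by
    simp only [l, dif_pos h]
    exact (T.exists_nbr S h).choose_spec
  refine ⟨l, ⟨fun e he => ⟨fun h => ?_, Or.inr (hl he).2.1⟩, fun x hx => ?_, fun e he f hf h => ?_,
    fun e he f hf => ?_⟩, fun e he => (hl he).1⟩
  · have := (hl he).2.1.1
    rw [h] at this
    exact T.el_not_sd _ this
  · rcases hx.2 with h | ⟨h1, h2⟩
    · exact absurd h.symm hx.1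
    · obtain ⟨e, he, e'⟩ := h1
      exact ⟨e, he, ((hl he).2.2 x e'.symm h2).symm⟩
  · exact T.L_inj he hf (by rw [← (hl he).1, ← (hl hf).1, h])
  · constructor
    · rintro (h | h)
      · rw [T.L_inj he hf (by rw [← (hl he).1, ← (hl hf).1, h])]
      · have := T.comm_sd h.1
        rw [(hl he).1, (hl hf).1] at this
        have h2 : Commute (T.L f) (T.L e) := Subtype.ext this.eq
        have h3 := h2.map T.π
        rw [T.sect.proj f hf, T.sect.proj e he] at h3
        exact h3.symm
    · intro hc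
      by_cases hef : e = f
      · rw [hef]; exact Or.inl rfl
      refine Or.inr ?_
      have half : ∀ a ∈ E, ∀ b ∈ E, a ≠ b → Commute a b → (l b).el ∈ (l a).sd := by
        intro a ha b hb hab hcab
        obtain ⟨g, h1, h2, h3⟩ := T.edge a ha b hb hab hcab
        rw [(hl hb).1, ← (hl ha).2.2 (g • T.o) h1 h2]
        exact h3
      exact ⟨half e he f hf hef hc, half f hf e he (Ne.symm hef) hc.symm⟩

include S in
/-- a chart at every state -/
theorem Top.exists_chart (v : T.St) : ∃ l, GChart T.R E v l := by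
  obtain ⟨g, rfl⟩ := T.exists_smul v
  obtain ⟨l, c, -⟩ := T.exists_chart_o S
  refine ⟨fun e => g • l e, fun e he => ⟨fun h => (c.mem e he).1 (MulAction.injective g h),
    (T.R_smul g).2 (c.mem e he).2⟩, fun x hx => ?_, fun e he f hf h => c.inj e he f hf (MulAction.injective g h),
    fun e he f hf => (T.R_smul g).trans (c.comm e he f hf)⟩
  obtain ⟨e, he, h⟩ := c.surj (g⁻¹ • x) ⟨fun h => hx.1 (by rw [← h, smul_inv_smul]),
    (T.R_smul g).1 (by rw [smul_inv_smul]; exact hx.2)⟩
  exact ⟨e, he, show g • l e = x by rw [h, smul_inv_smul]⟩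

include S in
/-- connected states with one involution are equal -/
theorem Top.el_inj {v w : T.St} (h : Relation.ReflTransGen T.R v w) (he : v.el = w.el) : v = w := by
  rcases diameter T.refl_R S (fun a => T.exists_chart S a) h with (h' | h') | ⟨u, hu1, hu2⟩
  · exact h'
  · exact absurd (show v.el ∈ v.sd by rw [he]; exact h'.1) (T.el_not_sd v)
  · rcases hu1.2 with h1 | h1
    · exact absurd h1.symm hu1.1
    rcases hu2.2 with h2 | h2
    · exact absurd h2.symm hu2.1
    exact T.eq_of_meet (exists_nonempty S) he h1.1 h2.1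

include S in
/-- connected states with commuting involutions are equal or adjacent -/
theorem Top.R_of_commute {v w : T.St} (h : Relation.ReflTransGen T.R v w) (hc : Commute v.el w.el) : T.R v w := by
  rcases diameter T.refl_R S (fun a => T.exists_chart S a) h with h' | ⟨u, hu1, hu2⟩
  · exact h'
  obtain ⟨g, rfl⟩ := T.exists_smul u
  obtain ⟨l, c, hl⟩ := T.exists_chart_o S
  have key : ∀ {x : T.St}, g • T.o ∈ nb T.R x → ∃ e ∈ E, g • l e = x := by
    intro x hx
    obtain ⟨e, he, h⟩ := c.surj (g⁻¹ • x) ⟨fun h => hx.1 (by rw [← h, smul_inv_smul]),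
      (T.R_smul g).1 (by rw [smul_inv_smul]; exact T.refl_R.symm hx.2)⟩
    exact ⟨e, he, by rw [h, smul_inv_smul]⟩
  obtain ⟨e, he, rfl⟩ := key hu1
  obtain ⟨f, hf, rfl⟩ := key hu2
  simp only [Top.St.el_smul, hl e he, hl f hf] at hc
  rw [T.R_smul, c.comm e he f hf]
  have h1 : Commute (T.L e : G) (T.L f : G) := by
    have := hc.map (MulAut.conj g⁻¹).toMonoidHom
    simpa [mul_assoc] using this
  have h2 := (show Commute (T.L e) (T.L f) from Subtype.ext h1.eq).map T.π
  rwa [T.sect.proj e he, T.sect.proj f hf] at h2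

end Cfsg.Agent.Lib.Fi24Recog30
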