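import Cfsg.Agent.Lib.Fi24Recog30.Pair

/-!
An involution with one of its two classes of lifts (a side), and what is used about it.
-/

set_option autoImplicit false
set_option linter.style.haveILetI false
set_option linter.unusedSectionVars false

namespace Cfsg.Agent.Lib.Fi24Recog30

open Cfsg.Agent.Lib.FischerMTypes90 (Cover Sect)

universe u v

section Conj

variable {G : Type u} [Group G]

/-- the conjugate of a set -/
def cs (g : G) (S : Set G) : Set G := (fun x => g * x * g⁻¹) '' S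

theorem mem_cs {g y : G} {S : Set G} : y ∈ cs g S ↔ g⁻¹ * y * g ∈ S := by
  constructor
  · rintro ⟨x, hx, rfl⟩
    simpa [mul_assoc] using hx
  · exact fun h => ⟨_, h, by group⟩

theorem conj_mem_cs {g x : G} {S : Set G} : g * x * g⁻¹ ∈ cs g S ↔ x ∈ S := by
  rw [mem_cs]; simp [mul_assoc]

theorem cs_mul (g h : G) (S : Set G) : cs (g * h) S = cs g (cs h S) := by
  ext y; rw [mem_cs, mem_cs, mem_cs, mul_inv_rev]; simp [mul_assoc]

theorem cs_one (S : Set G) : cs 1 S = S := by ext y; simp [mem_cs]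

theorem cs_inv_cs (g : G) (S : Set G) : cs g⁻¹ (cs g S) = S := by rw [← cs_mul, inv_mul_cancel, cs_one]

theorem ncard_cs (g : G) (S : Set G) : (cs g S).ncard = S.ncard :=
  Set.ncard_image_of_injective S (fun x y h => by simpa using h)

end Conj

/-- an involution, its centraliser part and a side -/
structure Top (G : Type u) [Group G] (Y : Type v) [Group Y] (E : Set Y) extends Cen G Y where
  L : Y → ↥K
  sect : Sect E π L
  hD : Cfsg.IsThreeTranspositionGroup E
  swap : ∃ w, Commute w t ∧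
    cs w ((fun e => (L e : G)) '' E) = (fun x => t * x) '' ((fun e => (L e : G)) '' E)
  edge : ∀ e ∈ E, ∀ f ∈ E, e ≠ f → Commute e f → ∃ g : G, g * t * g⁻¹ = (L e : G) ∧
    t ∈ cs g ((fun e => (L e : G)) '' E) ∧ (L f : G) ∈ cs g ((fun e => (L e : G)) '' E)

namespace Top

variable {G : Type u} [Group G] {Y : Type v} [Group Y] {E : Set Y} (T : Top G Y E)

/-- the side -/
def side : Set G := (fun e => (T.L e : G)) '' E

theorem mem_side {e : Y} (he : e ∈ E) : (T.L e : G) ∈ T.side := ⟨e, he, rfl⟩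

theorem L_inj {e f : Y} (he : e ∈ E) (hf : f ∈ E) (h : (T.L e : G) = T.L f) : e = f := by
  rw [← T.sect.proj e he, ← T.sect.proj f hf, Subtype.ext h]

theorem t_mul_ne {e f : Y} (he : e ∈ E) (hf : f ∈ E) : T.t * (T.L e : G) ≠ T.L f := by
  intro h
  have h1 : (⟨T.t, T.tK⟩ : ↥T.K) * T.L e = T.L f := Subtype.ext h
  have h2 := congrArg T.π h1
  rw [map_mul, T.cover.one, one_mul, T.sect.proj e he, T.sect.proj f hf] at h2
  subst h2
  exact T.ne (mul_eq_right.1 h)

theorem not_side_of_shift {y : G} (hy : y ∈ T.side) : T.t * y ∉ T.side := by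
  obtain ⟨e, he, rfl⟩ := hy
  rintro ⟨f, hf, h⟩
  exact T.t_mul_ne he hf h.symm

theorem t_not_side : T.t ∉ T.side := by
  rintro ⟨e, he, h⟩
  have h1 : T.L e = ⟨T.t, T.tK⟩ := Subtype.ext h
  have h2 := congrArg T.π h1
  rw [T.cover.one, T.sect.proj e he] at h2
  subst h2
  have := T.hD.1.1 1 he
  rw [orderOf_one] at this
  omega

theorem comm_t {y : G} (hy : y ∈ T.side) : Commute y T.t := by
  obtain ⟨e, -, rfl⟩ := hy
  exact T.le _ (T.L e).2

theorem cs_K {k : G} (hk : k ∈ T.K) : cs k T.side = T.side := by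
  have h : ∀ k' ∈ T.K, ∀ y ∈ T.side, k' * y * k'⁻¹ ∈ T.side := by
    rintro k' hk' _ ⟨e, he, rfl⟩
    refine ⟨_, T.hD.2.1 (T.π ⟨k', hk'⟩) e he, ?_⟩
    show ((T.L _ : ↥T.K) : G) = _
    rw [← T.sect.conj e he ⟨k', hk'⟩]
    rfl
  ext y
  refine ⟨?_, fun hy => mem_cs.2 ?_⟩
  · rintro ⟨x, hx, rfl⟩
    exact h k hk x hx
  · simpa using h k⁻¹ (inv_mem hk) y hy

theorem exists_mem : E.Nonempty → T.side.Nonempty := fun ⟨e, he⟩ => ⟨_, T.mem_side he⟩

/-- what an element of the centraliser does to the side -/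
theorem dich (hE : E.Nonempty) {g : G} (hg : Commute g T.t) :
    (g ∈ T.K ∧ cs g T.side = T.side) ∨ (g ∉ T.K ∧ cs g T.side = (fun x => T.t * x) '' T.side) := by
  obtain ⟨w, hw, hws⟩ := T.swap
  change cs w T.side = (fun x => T.t * x) '' T.side at hws
  obtain ⟨y, hy⟩ := T.exists_mem hE
  have hwK : w ∉ T.K := fun h => by
    rw [T.cs_K h] at hws
    obtain ⟨x, hx, e⟩ := hws ▸ hy
    exact T.not_side_of_shift hx (show (fun x => T.t * x) x ∈ T.side by rw [e]; exact hy)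
  by_cases hgK : g ∈ T.K
  · exact Or.inl ⟨hgK, T.cs_K hgK⟩
  · refine Or.inr ⟨hgK, ?_⟩
    have hwinv : Commute w⁻¹ T.t := hw.inv_left
    have hk : g * w⁻¹ ∈ T.K := T.two g w⁻¹ hg hwinv hgK (fun h => hwK (inv_inv w ▸ inv_mem h))
    have hcs : cs g T.side = cs (g * w⁻¹) (cs w T.side) := by rw [← cs_mul, inv_mul_cancel_right]
    rw [hcs, hws]
    have hcomm : Commute (g * w⁻¹) T.t := T.le _ hk
    ext x
    rw [mem_cs]
    constructor
    · rintro ⟨v, hv, e⟩
      refine ⟨_, (T.cs_K hk).subset (conj_mem_cs (g := g * w⁻¹).2 hv), ?_⟩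
      change T.t * v = _ at e
      calc T.t * ((g * w⁻¹) * v * (g * w⁻¹)⁻¹) = (g * w⁻¹) * (T.t * v) * (g * w⁻¹)⁻¹ := by
            rw [← mul_assoc, ← mul_assoc, ← hcomm.eq]; group
        _ = x := by rw [e]; group
    · rintro ⟨v, hv, rfl⟩
      refine ⟨(g * w⁻¹)⁻¹ * v * (g * w⁻¹), mem_cs.1 ((T.cs_K hk).symm ▸ hv), ?_⟩
      show T.t * ((g * w⁻¹)⁻¹ * v * (g * w⁻¹)) = (g * w⁻¹)⁻¹ * (T.t * v) * (g * w⁻¹)
      calc T.t * ((g * w⁻¹)⁻¹ * v * (g * w⁻¹)) = (T.t * (g * w⁻¹)⁻¹) * (v * (g * w⁻¹)) := by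
            simp only [mul_assoc]
        _ = ((g * w⁻¹)⁻¹ * T.t) * (v * (g * w⁻¹)) := by rw [hcomm.inv_left.eq]
        _ = _ := by simp only [mul_assoc]

/-- the stabiliser of the side in the centraliser -/
theorem stab (hE : E.Nonempty) {g : G} (hg : Commute g T.t) (h : cs g T.side = T.side) : g ∈ T.K := by
  rcases T.dich hE hg with ⟨h1, -⟩ | ⟨-, h2⟩
  · exact h1
  · obtain ⟨y, hy⟩ := T.exists_mem hE
    obtain ⟨x, hx, e⟩ := (h2.symm.trans h).symm ▸ hy
    exact absurd (show (fun x => T.t * x) x ∈ T.side by rw [e]; exact hy) (T.not_side_of_shift hx)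

end Top

end Cfsg.Agent.Lib.Fi24Recog30
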